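import Cfsg.Agent.Lib.OrthMax.TensorOO.Four.LongRoot
import Cfsg.Agent.Lib.OrthMax.TensorOO.Stab

/-! Tensor squares of three-dimensional orthogonal spaces: frames and half turns. -/

set_option autoImplicit false
set_option linter.unusedSectionVars false
set_option linter.unusedVariables false
set_option linter.unusedSimpArgs false

namespace CfsgLib.TensorOO

open QuadraticMap CfsgLib.Geometry CfsgLib.OrthMax
open LinearMap (BilinForm)

variable {F V U W : Type*} [Field F] [AddCommGroup V] [Module F V] [AddCommGroup U] [Module F U]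
  [AddCommGroup W] [Module F W]
variable [FiniteDimensional F V] [FiniteDimensional F U] [FiniteDimensional F W]
variable {Q : QuadraticForm F V}

namespace TData

/-- Two three-dimensional factors over a field with a small scalar. -/
structure Nine (h : TData Q U W) : Prop extends h.ThreeU where
  dW : Module.finrank F W = 3

variable [Finite F] {h : TData Q U W} (H : h.Nine)

include H

theorem Nine.swap : h.swap.Nine := ⟨⟨H.dW, H.hex⟩, H.dU⟩

theorem Nine.noPair {w v : W} (hw0 : w ≠ 0) (hw : h.gW w w = 0) (hv : h.gW v v = 0) (hwv : h.gW w v = 0) :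
    v ∈ Submodule.span F {w} := by
  obtain ⟨z', hz', hzz'⟩ := h.gN.exists_partner hw0 hw
  obtain ⟨hN, hd⟩ := h.gN.pair_perp hw hz' hzz'
  rw [H.dW] at hd
  have hz'w : h.gW z' w = 1 := by rw [h.g_sym, hzz']
  set r := v - h.gW z' v • w with hr
  have hrS : r ∈ LinearMap.ker (h.gW w) ⊓ LinearMap.ker (h.gW z') := by
    constructor <;> simp [hr, hw, hwv, hz'w]
  have hrr : h.gW r r = 0 := by simp [hr, hw, hv, hwv, h.g_sym v w]
  have h1 : Module.finrank F (LinearMap.ker (h.gW w) ⊓ LinearMap.ker (h.gW z') : Submodule F W) = 1 := by omega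
  obtain ⟨⟨a, ha⟩, ha0, hspan⟩ := finrank_eq_one_iff'.1 h1
  obtain ⟨c, hc⟩ := hspan ⟨r, hrS⟩
  have hc' : c • a = r := congrArg Subtype.val hc
  have haa : h.gW a a ≠ 0 := fun e => ha0 (Subtype.ext (hN a ha fun y hy => by
    obtain ⟨d, hd⟩ := hspan ⟨y, hy⟩
    rw [show y = d • a from (congrArg Subtype.val hd).symm, map_smul, e, smul_zero]))
  rw [← hc'] at hrr
  simp only [map_smul, LinearMap.smul_apply, smul_eq_mul, mul_eq_zero] at hrr
  have hr0 : r = 0 := by
    rcases hrr with e | e | e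
    · rw [← hc', e, zero_smul]
    · rw [← hc', e, zero_smul]
    · exact absurd e haa
  rw [hr, sub_eq_zero] at hr0
  rw [hr0]
  exact Submodule.smul_mem _ _ (Submodule.mem_span_singleton_self w)

theorem finrank_V9 [Nontrivial U] [Nontrivial W] : Module.finrank F V = 9 := by rw [finrank_V h, H.dU, H.dW]

theorem five_le [Nontrivial U] [Nontrivial W] : 5 ≤ Module.finrank F V := by rw [finrank_V9 H]; norm_num

/-- Three orthogonal anisotropic vectors spanning. -/
theorem exists_orth3W {e : W} (he : h.gW e e ≠ 0) :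
    ∃ a a', h.gW e a = 0 ∧ h.gW e a' = 0 ∧ h.gW a a' = 0 ∧ h.gW a a ≠ 0 ∧ h.gW a' a' ≠ 0 ∧
      ∀ u, u = (h.gW e u / h.gW e e) • e + (h.gW a u / h.gW a a) • a + (h.gW a' u / h.gW a' a') • a' :=
  exists_orth3 (h := h.swap) H.swap.toThreeU he

/-- The invariant of a half turn of the first factor. -/
theorem exists_sigma_orth {e a a' : U} (he : h.fU e e ≠ 0) (haa : h.fU a a ≠ 0) (ha'a' : h.fU a' a' ≠ 0)
    (hea : h.fU e a = 0) (hea' : h.fU e a' = 0) (haa' : h.fU a a' = 0) [Nontrivial W] :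
    ∃ k : orth Q, (∀ u y, (k : V ≃ₗ[F] V) (h.tp u y) = h.tp (h.sigma e u) y) ∧
      orthInvariant h.qnd (reflGroup_eq_orth_of_two_ne h.qnd h.h2) k =
        (sqHom F (Units.mk0 (h.fU a a * h.fU a' a') (mul_ne_zero haa ha'a')), 1) := by
  have h2 := h.h2
  obtain ⟨p, hp⟩ := h.gN.exists_aniso
  obtain ⟨m, b, hpm, hpb, hmb, hm, hb, hW⟩ := exists_orth3W H hp
  have main : ∀ a : U, h.fU a a ≠ 0 → ∃ (k : orth Q) (κ : Fˣ),
      (∀ u y, (k : V ≃ₗ[F] V) (h.tp u y) = h.tp (-h.sigma a u) y) ∧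
      orthInvariant h.qnd (reflGroup_eq_orth_of_two_ne h.qnd h.h2) k = (sqHom F κ, Multiplicative.ofAdd 1) ∧
      (κ : F) = h.fU a a * h.fU a a * h.fU a a * (h.gW p p * h.gW m m * h.gW b b / 8) := by
    intro a ha
    have hQ : ∀ v, Q (h.tp a v) = h.fU a a * h.gW v v / 2 := fun v => by
      rw [← h.Q_tp, mul_div_cancel_left₀ _ h2]
    have hne : ∀ v, h.gW v v ≠ 0 → Q (h.tp a v) ≠ 0 := fun v hv => by
      rw [hQ]; exact div_ne_zero (mul_ne_zero ha hv) h2
    have n1 := hne p hp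
    have n2 := hne m hm
    have n3 := hne b hb
    have hr : ∀ (v : W) (nv : Q (h.tp a v) ≠ 0) u y, refl Q _ nv (h.tp u y) =
        h.tp u y - (2 * h.fU a u * h.gW v y / (h.fU a a * h.gW v v)) • h.tp a v := fun v nv u y => by
      rw [refl_apply, h.pol, hQ, h.g_sym y v, h.f_sym u a]
      congr 2
      field_simp
    refine ⟨oRefl Q _ n1 * oRefl Q _ n2 * oRefl Q _ n3, Units.mk0 _ n1 * Units.mk0 _ n2 * Units.mk0 _ n3,
      fun u y => ?_, ?_, ?_⟩
    · show refl Q _ n1 (refl Q _ n2 (refl Q _ n3 (h.tp u y))) = _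
      simp only [map_sub, map_smul, hr, h.g_sym b m, h.g_sym b p, h.g_sym m p, hpm, hpb, hmb, mul_zero, zero_div,
        zero_smul, sub_zero]
      conv_rhs => rw [hW y]
      nth_rewrite 1 [hW y]
      simp only [sigma_apply, map_add, map_sub, map_neg, map_smul, LinearMap.sub_apply, LinearMap.neg_apply,
        LinearMap.smul_apply]
      match_scalars <;> field_simp <;> ring
    · rw [map_mul, map_mul, orthInvariant_oRefl, orthInvariant_oRefl, orthInvariant_oRefl, map_mul, map_mul]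
      exact Prod.ext rfl (show Multiplicative.ofAdd (1 : ZMod 2) * Multiplicative.ofAdd 1 * Multiplicative.ofAdd 1 =
        Multiplicative.ofAdd 1 by decide)
    · have h8 : (8 : F) ≠ 0 := by
        rw [show (8 : F) = 2 ^ 3 by norm_num]
        exact pow_ne_zero _ h2
      simp only [Units.val_mul, Units.val_mk0, hQ]
      field_simp
      ring
  obtain ⟨k, κ, ek, ik, eκ⟩ := main a haa
  obtain ⟨k', κ', ek', ik', eκ'⟩ := main a' ha'a'
  have hU : ∀ u, u = (h.fU e u / h.fU e e) • e + (h.fU a u / h.fU a a) • a + (h.fU a' u / h.fU a' a') • a' := by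
    have hd : Module.finrank F (LinearMap.ker (h.fU e)) + 1 = Module.finrank F U :=
      h.fN.finrank_ker fun e' => he (by rw [e', map_zero])
    have hdU := H.dU
    have hd2 := Nice.finrank_inter (B := h.fU) (S := LinearMap.ker (h.fU e)) (e := a) hea haa
    have hd3 := Nice.finrank_inter (B := h.fU) (S := LinearMap.ker (h.fU e) ⊓ LinearMap.ker (h.fU a)) (e := a')
      ⟨hea', haa'⟩ ha'a'
    intro u
    refine sub_eq_zero.1 (Submodule.eq_bot_iff _ |>.1 (Submodule.finrank_eq_zero.1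
      (show Module.finrank F (LinearMap.ker (h.fU e) ⊓ LinearMap.ker (h.fU a) ⊓ LinearMap.ker (h.fU a') :
        Submodule F U) = 0 by omega)) _ ?_)
    refine ⟨⟨?_, ?_⟩, ?_⟩ <;>
      simp [hea, hea', haa', h.f_sym a e, h.f_sym a' e, h.f_sym a' a, div_mul_cancel₀ _ he,
        div_mul_cancel₀ _ haa, div_mul_cancel₀ _ ha'a']
  refine ⟨k * k', fun u y => ?_, ?_⟩
  · show (k : V ≃ₗ[F] V) ((k' : V ≃ₗ[F] V) _) = _
    rw [ek', ek]
    congr 1
    congr 1
    simp only [sigma_apply, map_neg, map_sub, map_smul, haa', smul_eq_mul, mul_zero, sub_zero]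
    conv_lhs => rw [hU u]
    conv_rhs => rw [hU u]
    simp only [map_add, map_smul, hea, hea', haa', h.f_sym a e, h.f_sym a' e, h.f_sym a' a, smul_eq_mul, mul_zero,
      zero_add, add_zero, div_mul_cancel₀ _ he, div_mul_cancel₀ _ haa, div_mul_cancel₀ _ ha'a']
    match_scalars <;> field_simp <;> ring
  · rw [map_mul, ik, ik']
    refine Prod.ext ?_ (show Multiplicative.ofAdd (1 : ZMod 2) * Multiplicative.ofAdd 1 = 1 by decide)
    show sqHom F κ * sqHom F κ' = _
    set N := h.gW p p * h.gW m m * h.gW b b / 8 with hN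
    have hN0 : N ≠ 0 := fun e0 => κ.ne_zero (by rw [eκ, e0, mul_zero])
    rw [← map_mul, ← mul_one (sqHom F (Units.mk0 (h.fU a a * h.fU a' a') _)),
      ← (sqHom_eq_one_iff (Units.mk0 (h.fU a a * h.fU a' a' * N * (h.fU a a * h.fU a' a' * N))
        (mul_ne_zero (mul_ne_zero (mul_ne_zero haa ha'a') hN0) (mul_ne_zero (mul_ne_zero haa ha'a') hN0)))).2
          ⟨h.fU a a * h.fU a' a' * N, rfl⟩, ← map_mul]
    congr 1
    refine Units.ext ?_
    simp only [Units.val_mul, Units.val_mk0, eκ, eκ']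
    ring

variable {M : Subgroup (V ≃ₗ[F] V)}

/-- A half turn with a square class is a member. -/
theorem sigma_mem9 [Nontrivial U] [Nontrivial W] (hG : h.Gens M) {e a a' : U} (he : h.fU e e ≠ 0)
    (haa : h.fU a a ≠ 0) (ha'a' : h.fU a' a' ≠ 0) (hea : h.fU e a = 0) (hea' : h.fU e a' = 0)
    (haa' : h.fU a a' = 0) (hsq : IsSquare (h.fU a a * h.fU a' a')) :
    ∃ k ∈ M, ∀ u y, k (h.tp u y) = h.tp (h.sigma e u) y := by
  obtain ⟨k, ek, ik⟩ := exists_sigma_orth H he haa ha'a' hea hea' haa'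
  refine ⟨k, hG.tensU _ ?_ (h.sigma e) ek, ek⟩
  have hR := reflGroup_eq_orth_of_two_ne h.qnd h.h2
  refine (mem_commutator_iff_siegelGroup h.qnd (five_le H) _).1 ?_
  rw [← ker_orthInvariant h.qnd (by have := five_le H; omega) h.h2 hR, MonoidHom.mem_ker, ik]
  exact Prod.ext ((sqHom_eq_one_iff _).2 hsq) rfl

/-- An orthogonal basis with equal norms. -/
theorem exists_equal_basis :
    ∃ y₁ y₂ y₃ : U, ∃ μ : F, μ ≠ 0 ∧ h.fU y₁ y₁ = μ ∧ h.fU y₂ y₂ = μ ∧ h.fU y₃ y₃ = μ ∧ h.fU y₁ y₂ = 0 ∧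
      h.fU y₁ y₃ = 0 ∧ h.fU y₂ y₃ = 0 := by
  haveI : Nontrivial U := Module.nontrivial_of_finrank_pos (R := F) (by rw [H.dU]; norm_num)
  obtain ⟨x₁, hx₁⟩ := h.fN.exists_aniso
  have hNd : NdIn h.fU (⊤ ⊓ LinearMap.ker (h.fU x₁)) := h.fN.ndIn_inter h.fN.ndIn_top Submodule.mem_top hx₁
  rw [top_inf_eq] at hNd
  have hd1 : Module.finrank F (LinearMap.ker (h.fU x₁)) + 1 = Module.finrank F U :=
    h.fN.finrank_ker fun e' => hx₁ (by rw [e', map_zero])
  have hdU := H.dU
  obtain ⟨x₂, hx₂, hx₂n⟩ := h.fN.exists_norm hNd (by omega) (h.fU x₁ x₁)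
  have hx₂0 : h.fU x₂ x₂ ≠ 0 := by rw [hx₂n]; exact hx₁
  have hd2 := Nice.finrank_inter (B := h.fU) (S := LinearMap.ker (h.fU x₁)) (e := x₂) hx₂ hx₂0
  obtain ⟨x₃, hx₃, hx₃0⟩ := h.fN.exists_aniso_nd (h.fN.ndIn_inter hNd hx₂ hx₂0) (by omega)
  have h12 : h.fU x₁ x₂ = 0 := hx₂
  have h13 : h.fU x₁ x₃ = 0 := hx₃.1
  have h23 : h.fU x₂ x₃ = 0 := hx₃.2
  haveI := Fintype.ofFinite F
  obtain ⟨α, β, hαβ⟩ : ∃ α β : F, α * α + β * β = h.fU x₃ x₃ / h.fU x₁ x₁ := by
    obtain ⟨α, β, hab⟩ := FiniteField.exists_root_sum_quadratic (R := F) (f := Polynomial.X ^ 2)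
      (g := Polynomial.X ^ 2 - Polynomial.C (h.fU x₃ x₃ / h.fU x₁ x₁)) (Polynomial.degree_X_pow 2)
      (Polynomial.degree_X_pow_sub_C (by decide) _) (FiniteField.odd_card_of_char_ne_two fun e => h.h2 (by
        haveI := ringChar.of_eq e
        exact CharTwo.two_eq_zero))
    simp only [Polynomial.eval_pow, Polynomial.eval_X, Polynomial.eval_sub, Polynomial.eval_C] at hab
    exact ⟨α, β, by linear_combination hab⟩
  rw [eq_div_iff hx₁] at hαβ
  refine ⟨x₃, α • x₁ + β • x₂, -β • x₁ + α • x₂, h.fU x₃ x₃, hx₃0, rfl, ?_, ?_, ?_, ?_, ?_⟩ <;>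
    simp [h12, h13, h23, h.f_sym x₂ x₁, h.f_sym x₃ x₁, h.f_sym x₃ x₂, hx₂n]
  · linear_combination hαβ
  · linear_combination hαβ
  · ring

end TData

end CfsgLib.TensorOO
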