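import Cfsg.Agent.Lib.OrthMax.TensorOO.Nine.Main
import Cfsg.Agent.Lib.OrthMax.TensorOO.Bridge
import Cfsg.Agent.Lib.AschbacherOrth.OddRows

/-! The stabiliser of a tensor square of a three-dimensional orthogonal space is maximal. -/

set_option autoImplicit false
set_option linter.unusedSectionVars false
set_option linter.unusedVariables false
set_option linter.unusedSimpArgs false

namespace CfsgLib.TensorOO

open QuadraticMap CfsgLib.Geometry CfsgLib.OrthMax Cfsg Cfsg.Geo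
open CfsgLib.AschbacherOrth
open scoped Matrix MatrixGroups Kronecker

universe u

variable {F : Type u} [Field F] [Fintype F] {ι : Type} [Fintype ι] [DecidableEq ι]
variable {Q : QuadraticForm F (ι → F)}

/-- A tensor square is a tensor product of two equal forms. -/
theorem tensorForm_of_power {f : (ι → F) → (ι → F) → F} {f₁ : (Fin 3 → F) → (Fin 3 → F) → F}
    {e : ι ≃ (Fin 2 → Fin 3)} {P : GL ι F} (hT : IsTensorPowerFormStructure id f f₁ e P) :
    IsTensorFormStructure id f f₁ f₁ (e.trans (finTwoArrowEquiv (Fin 3))) P := by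
  obtain ⟨c, hc, hf⟩ := hT
  refine ⟨c, hc, fun x y => ?_⟩
  have := hf (x ∘ finTwoArrowEquiv (Fin 3)) (y ∘ finTwoArrowEquiv (Fin 3))
  rw [Function.comp_assoc, Function.comp_assoc] at this
  refine this.trans (congrArg (c * ·) ?_)
  refine Fintype.sum_equiv (finTwoArrowEquiv (Fin 3)) _ _ fun a =>
    Fintype.sum_equiv (finTwoArrowEquiv (Fin 3)) _ _ fun b => ?_
  simp [Matrix.kronecker_apply, Fin.prod_univ_two, finTwoArrowEquiv]

/-- A tensor product subgroup lies in the wreath subgroup. -/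
theorem tensor_le_wreath (e : ι ≃ (Fin 2 → Fin 3)) (P : GL ι F) :
    tensorProductSubgroup 3 3 (e.trans (finTwoArrowEquiv (Fin 3))) P ≤ tensorWreathSubgroup 3 2 e P := by
  rintro _ ⟨_, ⟨k, ⟨A, B, hk⟩, rfl⟩, rfl⟩
  refine ⟨_, ⟨glReindex (finTwoArrowEquiv (Fin 3)).symm k, Subgroup.subset_closure (Or.inl ⟨![A, B], fun x y => ?_⟩),
    rfl⟩, congrArg _ (Units.ext (Matrix.ext fun i j => ?_))⟩
  · simp [glReindex, hk, Matrix.kronecker_apply, Fin.prod_univ_two, finTwoArrowEquiv]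
  · simp [glReindex]

/-- The element exchanging the factors. -/
theorem exists_factor_swap (e : ι ≃ (Fin 2 → Fin 3)) (P : GL ι F) :
    ∃ w ∈ tensorWreathSubgroup 3 2 e P, ∀ x y, (w : Matrix ι ι F) *ᵥ
      AschbacherOrth.pureVec (e.trans (finTwoArrowEquiv (Fin 3))) P x y =
        AschbacherOrth.pureVec (e.trans (finTwoArrowEquiv (Fin 3))) P y x := by
  let X : GL (Fin 2 → Fin 3) F := Aschbacher.permGL (Equiv.swap (0 : Fin 2) 1)
  refine ⟨MulAut.conj P (glReindex e.symm X),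
    ⟨_, ⟨X, Subgroup.subset_closure (Or.inr ⟨Equiv.swap 0 1, fun a b => rfl⟩), rfl⟩, rfl⟩, fun x y => ?_⟩
  simp only [AschbacherOrth.pureVec, MulAut.conj_apply, Units.val_mul]
  rw [← Matrix.mulVec_mulVec, ← Matrix.mulVec_mulVec]
  congr 1
  conv_lhs =>
    arg 2
    rw [Matrix.mulVec_mulVec, Units.inv_mul, Matrix.one_mulVec]
  funext i
  rw [Matrix.mulVec, dotProduct, Finset.sum_eq_single (e.symm (e i ∘ Equiv.swap (0 : Fin 2) 1))]
  · simp [glReindex, X, Aschbacher.permGL, finTwoArrowEquiv, mul_comm]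
  · intro b _ hb
    have : e b ≠ e i ∘ Equiv.swap (0 : Fin 2) 1 := fun h => hb (by rw [← h, e.symm_apply_apply])
    simp [glReindex, X, Aschbacher.permGL, this]
  · simp

/-- The stabiliser of a tensor square of `O₃` is maximal. -/
theorem tensor_maximal_wreath (hQ : (polarBilin Q).Nondegenerate) (hι : 5 ≤ Fintype.card ι) (h2 : (2 : F) ≠ 0)
    (hq : 5 ≤ Fintype.card F) (e : ι ≃ (Fin 2 → Fin 3)) (P : GL ι F)
    {f₁ : (Fin 3 → F) → (Fin 3 → F) → F} (hf₁ : IsSymmetricForm f₁)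
    (hT : IsTensorPowerFormStructure id (polar ⇑Q) f₁ e P) :
    IsMaximalIn (omegaGL ⇑Q) (tensorWreathSubgroup 3 2 e P ⊓ omegaGL ⇑Q) := by
  classical
  set e' := e.trans (finTwoArrowEquiv (Fin 3))
  obtain ⟨h, htp, -⟩ := exists_data hQ h2 e' P hf₁ hf₁ (tensorForm_of_power hT)
  have hn : 5 ≤ Module.finrank F (ι → F) := by simpa using hι
  have hC := fun g => OrthMax.mem_commutator_iff_siegelGroup hQ hn (Q := Q) g
  refine ⟨lt_of_le_of_ne inf_le_right fun he => not_wreath_two hQ hι le_rfl e P (inf_eq_right.1 he),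
    fun M hHM hMK => ?_⟩
  set N := (M.comap (orthToGL Q) ⊓ commutator (orth Q)).map (orth Q).subtype
  have hNle : N ≤ siegelGroup Q := by
    rintro _ ⟨g, hg, rfl⟩; exact (hC g).1 hg.2
  have hPure : ∀ k ∈ siegelGroup Q, h.Pure k → k ∈ N := fun k hk ⟨lam, S, ek⟩ => by
    obtain ⟨b1, b2⟩ := TData.Pure.bij ek
    exact ⟨⟨k, siegelGroup_le_orth hk⟩, ⟨hHM ⟨tensor_le_wreath e P (mem_tensor_of_maps e' P _ b1.1 b2.1 fun x y => by
        rw [← htp]; exact ek x y), by
      rw [omegaGL_eq_map]; exact Subgroup.mem_map_of_mem _ ((hC _).2 hk)⟩, (hC _).2 hk⟩, rfl⟩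
  have hG : h.Gens N := ⟨fun k hk => siegelGroup_le_orth (hNle hk), fun k hk ρ eρ => hPure k hk ⟨1, ρ, eρ⟩,
    fun k hk γ eγ => hPure k hk ⟨γ, 1, eγ⟩⟩
  obtain ⟨s, hs0, hs1⟩ : ∃ s : F, s ≠ 0 ∧ s * s ≠ 1 :=
    (exists_small h2 (k := 3) le_rfl ⟨1, rfl⟩ (by omega)).resolve_left (by simp)
  have H : h.Nine := ⟨⟨by simp, ⟨s, hs0, hs1⟩⟩, by simp⟩
  rcases TData.dichotomy_nine hG H hPure with htop | hall
  · refine Or.inr (le_antisymm hMK ?_)
    rw [omegaGL_eq_map]
    rintro _ ⟨g, hg, rfl⟩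
    obtain ⟨g', hg', he'⟩ := htop ((hC g).1 hg)
    rw [← Subtype.ext he']
    exact hg'.1
  · refine Or.inl (le_antisymm (fun x hx => ?_) hHM)
    have hm' := hMK hx
    rw [omegaGL_eq_map] at hm'
    obtain ⟨g, hg, rfl⟩ := hm'
    refine ⟨?_, by rw [omegaGL_eq_map]; exact Subgroup.mem_map_of_mem _ hg⟩
    rcases hall g ⟨g, ⟨hx, hg⟩, rfl⟩ with ⟨lam, S, eP⟩ | ⟨lam, S, eS⟩
    · obtain ⟨b1, b2⟩ := TData.Pure.bij eP
      exact tensor_le_wreath e P (mem_tensor_of_maps e' P g b1.1 b2.1 fun x y => by rw [← htp]; exact eP x y)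
    · obtain ⟨b1, b2⟩ := TData.MapsPure.bij (h₀ := h) (h := h.swap) rfl rfl eS
      obtain ⟨w, hw, ew⟩ := exists_factor_swap e P
      have u1 : IsUnit (LinearMap.toMatrix' lam) := Matrix.mulVec_injective_iff_isUnit.1 fun x x' he => b1.1 (by
        simpa [LinearMap.toMatrix'_mulVec] using he)
      have u2 : IsUnit (LinearMap.toMatrix' S) := Matrix.mulVec_injective_iff_isUnit.1 fun x x' he => b2.1 (by
        simpa [LinearMap.toMatrix'_mulVec] using he)
      have hwg : w * orthToGL Q g ∈ tensorProductSubgroup 3 3 e' P :=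
        TensorSp.mem_tensor_of_pure e' P u1.unit u2.unit fun x y => by
          rw [Units.val_mul, ← Matrix.mulVec_mulVec, orthToGL_mulVec, IsUnit.unit_spec, IsUnit.unit_spec,
            LinearMap.toMatrix'_mulVec, LinearMap.toMatrix'_mulVec]
          have := eS x y
          rw [show h.swap.tp (lam x) (S y) = h.tp (S y) (lam x) from rfl, htp] at this
          show (w : Matrix ι ι F) *ᵥ ((g : (ι → F) ≃ₗ[F] (ι → F)) (TensorSp.pureMap e' P x y)) = _
          rw [this]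
          exact ew _ _
      have hh := mul_mem (inv_mem hw) (tensor_le_wreath e P hwg)
      rwa [inv_mul_cancel_left] at hh

end CfsgLib.TensorOO
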