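import Cfsg.Agent.S0633
import Cfsg.Agent.Lib.Base.Cores

/-! A quadratic or cubic element centralises a normalised group of coprime order. -/

set_option autoImplicit false
set_option linter.unusedSectionVars false

namespace CfsgLib.TensorOO

open Cfsg

variable {F V : Type*} [Field F] [AddCommGroup V] [Module F V] [FiniteDimensional F V] [Nontrivial V]
  [Finite (V ≃ₗ[F] V)]

/-- An element of order `p ≥ 5` killed by a cube centralises a normalised `p'`-group. -/
theorem commute_of_cube {p : ℕ} [hp : Fact p.Prime] [CharP F p] (hp5 : 5 ≤ p) {K : Subgroup (V ≃ₗ[F] V)}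
    (hK : ¬ p ∣ Nat.card K) {x : V ≃ₗ[F] V} (hxK : ∀ k ∈ K, x * k * x⁻¹ ∈ K) (hxp : x ^ p = 1)
    (h3 : ((x : Module.End F V) - 1) ^ 3 = 0) : ∀ k ∈ K, x * k = k * x := by
  classical
  by_cases hx1 : x = 1
  · intro k _; simp [hx1]
  have hord : orderOf x = p := orderOf_eq_prime hxp hx1
  set Z := Subgroup.zpowers x
  set H := K ⊔ Z with hH
  have hxH : x ∈ H := Subgroup.mem_sup_right (Subgroup.mem_zpowers x)
  have hZn : Z ≤ Subgroup.normalizer (K : Set (V ≃ₗ[F] V)) :=
    Subgroup.zpowers_le.2 (Subgroup.mem_normalizer_fintype hxK)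
  have hHn : H ≤ Subgroup.normalizer (K : Set (V ≃ₗ[F] V)) := sup_le Subgroup.le_normalizer hZn
  set N := K.subgroupOf H with hN
  haveI : N.Normal := Subgroup.normal_subgroupOf_of_le_normalizer hHn
  have hcardN : Nat.card N = Nat.card K := Nat.card_congr (Subgroup.subgroupOfEquivOfLe le_sup_left).toEquiv
  let f : Z →* H ⧸ N := (QuotientGroup.mk' N).comp (Subgroup.inclusion le_sup_right)
  have hf : Function.Surjective f := by
    intro q
    obtain ⟨⟨y, hy⟩, rfl⟩ := QuotientGroup.mk'_surjective N q
    have hy' : y ∈ (Z ⊔ K : Subgroup _) := by rw [sup_comm]; exact hy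
    obtain ⟨z, hz, k, hk, rfl⟩ : ∃ z ∈ Z, ∃ k ∈ K, z * k = y := by
      rw [← SetLike.mem_coe, Subgroup.coe_mul_of_left_le_normalizer_right _ _ hZn] at hy'
      exact Set.mem_mul.1 hy'
    refine ⟨⟨z, hz⟩, ?_⟩
    show QuotientGroup.mk _ = QuotientGroup.mk _
    refine QuotientGroup.eq.2 (Subgroup.mem_subgroupOf.2 ?_)
    show z⁻¹ * (z * k) ∈ K
    rwa [inv_mul_cancel_left]
  have hZcard : Nat.card Z = p := by rw [Nat.card_zpowers, hord]
  have hidx : Nat.card (H ⧸ N) ∣ p := hZcard ▸ Subgroup.card_dvd_of_surjective f hf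
  have hsol : IsPSolvable p H := by
    obtain ⟨m, -, hm⟩ := (Nat.dvd_prime_pow hp.out (m := 1)).1 (show Nat.card (H ⧸ N) ∣ p ^ 1 by rwa [pow_one])
    refine ⟨2, ![⊥, N, ⊤], rfl, rfl, ?_, ?_, ?_⟩
    · intro i j hij
      fin_cases i <;> fin_cases j <;> simp at hij ⊢
    · intro i
      fin_cases i <;> simp [*] <;> infer_instance
    · intro i
      fin_cases i
      · refine Or.inr ?_
        show ((⊥ : Subgroup H).relIndex N).Coprime p
        rw [Subgroup.relIndex_bot_left, hcardN]
        exact ((Nat.Prime.coprime_iff_not_dvd hp.out).2 hK).symm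
      · refine Or.inl ⟨m, ?_⟩
        show N.relIndex ⊤ = p ^ m
        rw [Subgroup.relIndex_top_right]
        exact hm
  by_cases hO : pCore p H = ⊥
  swap
  · -- a normal `p`-subgroup is generated by `x`
    set xH : H := ⟨x, hxH⟩
    set P' := pCore p H ⊔ Subgroup.zpowers xH with hP'
    have hzp : IsPGroup p (Subgroup.zpowers xH) := IsPGroup.of_card (n := 1) (by
      rw [Nat.card_zpowers, pow_one, ← hord]
      exact (orderOf_injective H.subtype H.subtype_injective xH).symm)
    have hP'p : IsPGroup p P' := (CfsgLib.Base.isPGroup_pCore p H).to_sup_of_normal_left hzp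
    have hdisj : P' ⊓ N = ⊥ := Subgroup.inf_eq_bot_of_coprime (by
      obtain ⟨n, hn⟩ := IsPGroup.iff_card.1 hP'p
      rw [hn, hcardN]
      exact Nat.Coprime.pow_left _ ((Nat.Prime.coprime_iff_not_dvd hp.out).2 hK))
    have hinj : Function.Injective ((QuotientGroup.mk' N).comp P'.subtype) :=
      (injective_iff_map_eq_one _).2 fun y hy => Subtype.ext (by
        have h1 : (y : H) ∈ N := (QuotientGroup.eq_one_iff _).1 hy
        have h2 : (y : H) ∈ P' ⊓ N := ⟨y.2, h1⟩
        rwa [hdisj, Subgroup.mem_bot] at h2)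
    have hle : Nat.card P' ≤ p :=
      (Nat.card_le_card_of_injective _ hinj).trans (Nat.le_of_dvd hp.out.pos hidx)
    have heq : Subgroup.zpowers xH = P' := Subgroup.eq_of_le_of_card_ge le_sup_right (by
      rw [Nat.card_zpowers, orderOf_injective H.subtype H.subtype_injective xH |>.symm]
      show Nat.card P' ≤ orderOf x
      rw [hord]; exact hle)
    have hPle : pCore p H ≤ Subgroup.zpowers xH := heq ▸ le_sup_left
    have hxP : xH ∈ pCore p H := by
      have hc : Nat.card (pCore p H) ∣ p := by
        have := Subgroup.card_dvd_of_le hPle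
        rwa [Nat.card_zpowers, ← orderOf_injective H.subtype H.subtype_injective xH, show H.subtype xH = x from rfl,
          hord] at this
      have hp' : Nat.card (pCore p H) = p := (hp.out.eq_one_or_self_of_dvd _ hc).resolve_left fun e =>
        hO (Subgroup.card_eq_one.1 e)
      have := Subgroup.eq_of_le_of_card_ge hPle (by
        rw [hp', Nat.card_zpowers, ← orderOf_injective H.subtype H.subtype_injective xH,
          show H.subtype xH = x from rfl, hord])
      rw [this]; exact Subgroup.mem_zpowers xH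
    intro k hk
    set kH : H := ⟨k, Subgroup.mem_sup_left hk⟩
    have hkN : kH ∈ N := Subgroup.mem_subgroupOf.2 hk
    have hdd : pCore p H ⊓ N = ⊥ := le_bot_iff.1 (hdisj ▸ inf_le_inf_right N le_sup_left)
    have := congrArg Subtype.val
      (Subgroup.commute_of_normal_of_disjoint (pCore p H) N inferInstance inferInstance
        (disjoint_iff.2 hdd) xH kH hxP hkN).eq
    exact this
  · exfalso
    have hprime : Prime (Polynomial.X - 1 : Polynomial F) := by
      rw [← Polynomial.C_1]; exact Polynomial.prime_X_sub_C 1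
    have hmonic : (Polynomial.X - 1 : Polynomial F).Monic := by
      rw [← Polynomial.C_1]; exact Polynomial.monic_X_sub_C 1
    obtain ⟨r, hr3, hr⟩ := (dvd_prime_pow hprime _).1 (minpoly.dvd F (x : Module.End F V)
      (p := (Polynomial.X - 1) ^ 3) (by simpa using h3))
    have hr' : minpoly F (x : Module.End F V) = (Polynomial.X - 1) ^ r :=
      Polynomial.eq_of_monic_of_associated (minpoly.monic (Algebra.IsIntegral.isIntegral _)) (hmonic.pow r) hr
    rcases Cfsg.Agent.S0633.result H hsol hO x hxH 1 (by rw [hord, pow_one]) r hr' with h |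
      ⟨n₀, q, m, h1, h2, -, -, -, -, h7⟩
    · rw [pow_one] at h; omega
    · obtain rfl : n₀ = 1 := by omega
      simp at h7
      omega

end CfsgLib.TensorOO
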