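import Cfsg.Agent.Lib.OrthMax.TensorOO.Nine.Rad
import Cfsg.Agent.Lib.OrthMax.TensorOO.Four.Cent

/-! An element mapping one `A w₀` to another `A w`, for two tensor structures, is a product of two maps. -/

set_option autoImplicit false
set_option linter.unusedSectionVars false
set_option linter.unusedVariables false
set_option linter.unusedSimpArgs false

namespace CfsgLib.TensorOO

open QuadraticMap CfsgLib.Geometry CfsgLib.OrthMax
open CfsgLib.TensorSp (In)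
open LinearMap (BilinForm)

variable {F V U W U₀ W₀ : Type*} [Field F] [Finite F] [AddCommGroup V] [Module F V] [AddCommGroup U] [Module F U]
  [AddCommGroup W] [Module F W] [AddCommGroup U₀] [Module F U₀] [AddCommGroup W₀] [Module F W₀]
variable [FiniteDimensional F V] [FiniteDimensional F U] [FiniteDimensional F W] [FiniteDimensional F U₀]
  [FiniteDimensional F W₀]
variable {Q : QuadraticForm F V} {M : Subgroup (V ≃ₗ[F] V)}

namespace TData

/-- The map carries pure tensors of one structure to pure tensors of the other. -/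
def MapsPure (h₀ : TData Q U₀ W₀) (h : TData Q U W) (g : V ≃ₗ[F] V) : Prop :=
  ∃ (lam : U₀ →ₗ[F] U) (S : W₀ →ₗ[F] W), ∀ u y, g (h₀.tp u y) = h.tp (lam u) (S y)

variable {h₀ : TData Q U₀ W₀} {h : TData Q U W} [Nontrivial U] [Nontrivial W] [Nontrivial U₀] [Nontrivial W₀]

theorem MapsPure.bij (hd : Module.finrank F U₀ = Module.finrank F U) (hd' : Module.finrank F W₀ = Module.finrank F W)
    {g : V ≃ₗ[F] V} {lam : U₀ →ₗ[F] U} {S : W₀ →ₗ[F] W} (e : ∀ u y, g (h₀.tp u y) = h.tp (lam u) (S y)) :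
    Function.Bijective lam ∧ Function.Bijective S := by
  obtain ⟨u₀, hu₀⟩ := exists_ne (0 : U₀)
  obtain ⟨y₀, hy₀⟩ := exists_ne (0 : W₀)
  have h1 : Function.Injective lam := (injective_iff_map_eq_zero _).2 fun u hu => by_contra fun hne =>
    h₀.tp_ne_zero hne hy₀ (g.injective (by rw [e, hu, map_zero, map_zero, LinearMap.zero_apply]))
  have h2 : Function.Injective S := (injective_iff_map_eq_zero _).2 fun y hy => by_contra fun hne =>
    h₀.tp_ne_zero hu₀ hne (g.injective (by rw [e, hy, map_zero, map_zero]))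
  exact ⟨⟨h1, (LinearMap.injective_iff_surjective_of_finrank_eq_finrank hd).1 h1⟩,
    ⟨h2, (LinearMap.injective_iff_surjective_of_finrank_eq_finrank hd').1 h2⟩⟩

variable (hG₀ : h₀.Gens M) (H₀ : h₀.Nine) (hN₀ : h₀.NoZ M) (hG : h.Gens M) (H : h.Nine) (hN : h.NoZ M)

include hG₀ H₀ hN₀ hG H hN

/-- An element mapping one `A w₀` to an `A w` is a product. -/
theorem maps_of_member {g : V ≃ₗ[F] V} (hg : g ∈ M) {w₀ : W₀} {w : W} (hw₀0 : w₀ ≠ 0) (hw₀ : h₀.gW w₀ w₀ = 0)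
    (hw0 : w ≠ 0) (hw : h.gW w w = 0) (hmap : ∀ u, g (h₀.tp u w₀) ∈ h.A w) : MapsPure h₀ h g := by
  have h2 := h.h2
  have hV5 := five_le H
  have hgo := hG.le hg
  have hdd : Module.finrank F U₀ = Module.finrank F U := by rw [H.dU, H₀.dU]
  obtain ⟨w', b₁, fr⟩ := h.gN.exists_frame3 H.dW hw0 hw
  obtain ⟨w₀', b₀, fr₀⟩ := h₀.gN.exists_frame3 H₀.dW hw₀0 hw₀
  let lam' : U₀ →ₗ[F] U := h.c w' ∘ₗ g.toLinearMap ∘ₗ h₀.tp.flip w₀
  have hl : ∀ u, g (h₀.tp u w₀) = h.tp (lam' u) w := fun u => by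
    obtain ⟨p, hp⟩ := hmap u
    rw [LinearMap.flip_apply] at hp
    simp only [lam', LinearMap.comp_apply, LinearEquiv.coe_coe, LinearMap.flip_apply, ← hp, h.c_tp, fr.z'z h.gN,
      one_smul]
  have hinj : Function.Injective lam' := (injective_iff_map_eq_zero _).2 fun u hu => by_contra fun hne =>
    h₀.tp_ne_zero hne hw₀0 (g.injective (by rw [hl, hu, map_zero, map_zero, LinearMap.zero_apply]))
  let lam : U₀ ≃ₗ[F] U := LinearEquiv.ofBijective lam'
    ⟨hinj, (LinearMap.injective_iff_surjective_of_finrank_eq_finrank hdd).1 hinj⟩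
  have hl : ∀ u, g (h₀.tp u w₀) = h.tp (lam u) w := hl
  have hgs : ∀ p, g.symm (h.tp p w) = h₀.tp (lam.symm p) w₀ := fun p => by
    rw [LinearEquiv.symm_apply_eq, hl, lam.apply_symm_apply]
  have hlc : ∀ x S, h.fU (lam x) (h.c w (g S)) = h₀.fU x (h₀.c w₀ S) := fun x S => by
    rw [h.pol_c, h₀.pol_c, ← hl, orth_polar hgo]
  have hzero : ∀ S, h₀.c w₀ S = 0 → h.c w (g S) = 0 := fun S hz => h.ext_f fun p => by
    obtain ⟨x, rfl⟩ := lam.surjective p
    rw [hlc, hz, map_zero, map_zero]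
  have hzero' : ∀ S, h.c w (g S) = 0 → h₀.c w₀ S = 0 := fun S hz => h₀.ext_f fun x => by
    rw [← hlc, hz, map_zero, map_zero]
  -- the short elements are permuted
  have hperm : ∀ b, h.gW w b = 0 → ∃ c, h₀.gW w₀ c = 0 ∧ ∀ T, g (h₀.sh w₀ c 1 T) = h.sh w b 1 (g T) := by
    intro b hb
    let X : Module.End F V := g.symm.toLinearMap ∘ₗ h.sh w b 1 ∘ₗ g.toLinearMap
    have hX : h₀.Rad M w₀ X := by
      refine ⟨(in_sh hG hw hb).conj (inv_mem hg) fun T => ?_, fun u => ?_, fun u v hv => ?_, fun T => ?_⟩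
      · simp only [X, LinearMap.comp_apply, LinearEquiv.coe_coe]
        rw [show g ((g⁻¹ : V ≃ₗ[F] V) T) = T from g.apply_symm_apply T]
        rfl
      · simp [X, hl, sh_one_tp, hw, hb, h.g_sym b w]
      · simp only [X, LinearMap.comp_apply, LinearEquiv.coe_coe, sh_apply,
          hzero _ (show h₀.c w₀ (h₀.tp u v) = 0 by rw [h₀.c_tp, h₀.g_sym, hv, zero_smul]), map_zero,
          LinearMap.zero_apply, smul_zero, sub_zero, hgs]
        exact h₀.tp_mem_A _ _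
      · simp only [X, LinearMap.comp_apply, LinearEquiv.coe_coe]
        refine hzero' _ ?_
        rw [g.apply_symm_apply]
        simp [sh_apply, hw, hb]
    obtain ⟨c, hc, hXe⟩ := hX.eq_sh9 hG₀ H₀ hN₀ hw₀0 hw₀
    exact ⟨c, hc, fun T => by rw [← hXe]; simp [X]⟩
  -- `lam` is a similitude
  let mu : U₀ →ₗ[F] U := h.c w ∘ₗ g.toLinearMap ∘ₗ h₀.tp.flip w₀'
  have hlm : ∀ x u, h.fU (lam x) (mu u) = h₀.fU x u := fun x u => by
    show h.fU (lam x) (h.c w (g (h₀.tp u w₀'))) = _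
    rw [hlc, h₀.c_tp, fr₀.zz', one_smul]
  have hmi : Function.Injective mu := (injective_iff_map_eq_zero _).2 fun u hu => h₀.ext_f fun v => by
    rw [← hlm, hu, map_zero, map_zero]
  have hms : Function.Surjective mu := (LinearMap.injective_iff_surjective_of_finrank_eq_finrank hdd).1 hmi
  obtain ⟨ν, hν0, hν⟩ : ∃ ν : F, ν ≠ 0 ∧ ∀ x y, h.fU (mu x) (mu y) = ν * h₀.fU x y := by
    obtain ⟨c, hc, he⟩ := hperm b₁ fr.za
    have key : ∀ u u', h.fU (mu u) (mu u') * h.gW b₁ b₁ = h₀.fU u u' * h₀.gW c c := fun u u' => by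
      have e : ∀ u, g (h₀.tp u (h₀.gW c w₀' • w₀ - h₀.gW w₀ w₀' • c - (h₀.gW c c / 2 * h₀.gW w₀ w₀') • w₀)) =
          h.tp (h.c b₁ (g (h₀.tp u w₀'))) w - h.tp (mu u) b₁ - (h.gW b₁ b₁ / 2) • h.tp (mu u) w := fun u => by
        rw [← sh_one_tp, he, sh_apply, adj_one]
        rfl
      have := orth_polar hgo (h₀.tp u (h₀.gW c w₀' • w₀ - h₀.gW w₀ w₀' • c - (h₀.gW c c / 2 * h₀.gW w₀ w₀') • w₀))
        (h₀.tp u' (h₀.gW c w₀' • w₀ - h₀.gW w₀ w₀' • c - (h₀.gW c c / 2 * h₀.gW w₀ w₀') • w₀))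
      rw [e, e] at this
      simpa [h.pol, h₀.pol, polar_sub_left, polar_sub_right, polar_smul_left', polar_smul_right', hw, hw₀, hc, fr.za,
        fr.az h.gN, h₀.g_sym c w₀, fr₀.zz'] using this
    refine ⟨h₀.gW c c / h.gW b₁ b₁, fun e0 => ?_, fun x y => ?_⟩
    · obtain ⟨x, hx⟩ := exists_ne (0 : U)
      have hc0 : h₀.gW c c = 0 := (div_eq_zero_iff.1 e0).resolve_right fr.aa
      obtain ⟨p, hp⟩ := hms x
      refine hx (h.ext_f fun v => ?_)
      obtain ⟨q, rfl⟩ := hms v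
      have := key q p
      rw [hp, hc0, mul_zero] at this
      rw [map_zero]
      exact (mul_eq_zero.1 this).resolve_right fr.aa
    · rw [div_mul_eq_mul_div, eq_div_iff fr.aa, key]; ring
  have hsim : ∀ x y, h.fU (lam x) (lam y) = ν⁻¹ * h₀.fU x y := by
    have hlmu : ∀ x, lam x = ν⁻¹ • mu x := fun x => by
      refine h.ext_f fun p => ?_
      obtain ⟨u, rfl⟩ := hms p
      rw [h.f_sym, hlm, map_smul, hν, smul_eq_mul, inv_mul_cancel_left₀ hν0, h₀.f_sym]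
    intro x y
    rw [hlmu x, hlmu y]
    simp only [map_smul, LinearMap.smul_apply, hν, smul_eq_mul]
    field_simp
  -- conjugates of squares of isometries of the first factor
  have hsq : ∀ γ : Module.End F U₀, (∀ x y, h₀.fU (γ x) (γ y) = h₀.fU x y) → ∀ k ∈ M,
      (∀ u y, k (h₀.tp u y) = h₀.tp (γ (γ u)) y) → ∃ e ∈ M, ∃ r ∈ M, ∃ b, h.gW w b = 0 ∧
        g * k * g⁻¹ = e * r ∧ (∃ η : Module.End F U, ∀ u y, e (h.tp u y) = h.tp (η u) y) ∧
          ∀ T, r T = T + h.sh w b 1 T := by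
    intro γ hγ k hk ek
    let η₀ : Module.End F U := lam.toLinearMap ∘ₗ γ ∘ₗ lam.symm.toLinearMap
    have hη₀ : ∀ x y, h.fU (η₀ x) (η₀ y) = h.fU x y := fun x y => by
      obtain ⟨p, rfl⟩ := lam.surjective x
      obtain ⟨q, rfl⟩ := lam.surjective y
      simp [η₀, hsim, hγ]
    obtain ⟨e, he, ee⟩ := hG.sqU hV5 hη₀
    have ek' : ∀ u y, k (h₀.tp u y) = h₀.tp ((γ * γ) u) y := ek
    have ee' : ∀ u y, e (h.tp u y) = h.tp ((η₀ * η₀) u) y := ee
    set r := e⁻¹ * (g * k * g⁻¹) with hr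
    have hrM : r ∈ M := mul_mem (inv_mem he) (mul_mem (mul_mem hg hk) (inv_mem hg))
    have hrA : ∀ u, r (h.tp u w) = h.tp u w := fun u => by
      show e.symm (g (k (g.symm (h.tp u w)))) = _
      rw [LinearEquiv.symm_apply_eq, hgs, ek, hl, ee]
      simp [η₀]
    have hrc : ∀ b, h.gW w b = 0 → ∀ T, r (h.sh w b 1 T) = h.sh w b 1 (r T) := fun b hb T => by
      obtain ⟨c, hc, hcb⟩ := hperm b hb
      have e1 : ∀ T, g.symm (h.sh w b 1 T) = h₀.sh w₀ c 1 (g.symm T) := fun T => by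
        rw [LinearEquiv.symm_apply_eq, hcb, g.apply_symm_apply]
      show e.symm (g (k (g.symm (h.sh w b 1 T)))) = h.sh w b 1 (e.symm (g (k (g.symm T))))
      rw [e1, ← sh_commU hG₀ hk ek', hcb, LinearEquiv.symm_apply_eq, ← sh_commU hG he ee', e.apply_symm_apply]
    have hrw : ∀ T, h.c w (r T) = h.c w T := fun T => by
      refine h.ext_f fun u => ?_
      rw [h.pol_c, h.pol_c, ← orth_polar (hG.le hrM) (h.tp u w) T, hrA]
    have hY : h.Rad M w (r.toLinearMap - 1) := by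
      refine ⟨⟨r, hrM, fun T => by simp⟩, fun u => by simp [hrA], fun u v hv => ?_, fun T => by simp [hrw]⟩
      have hmid : ∀ b, h.gW w b = 0 → h.gW w' b = 0 → r (h.tp u b) - h.tp u b ∈ h.A w := by
        intro b hb hb'
        have e := hrc b hb (h.tp u w')
        rw [sh_one_tp, h.g_sym b w', hb', fr.zz', zero_smul, one_smul, mul_one, zero_sub, map_sub, map_sub, map_neg,
          map_smul, map_neg, map_smul, hrA, sh_apply, adj_one] at e
        simp only [Module.End.one_apply, hrw, h.c_tp, fr.zz', one_smul] at e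
        rw [show r (h.tp u b) - h.tp u b = - h.tp (h.c b (r (h.tp u w'))) w by linear_combination (norm := module) -e]
        exact (h.A w).neg_mem (h.tp_mem_A _ _)
      have hwv : h.gW w v = 0 := by rw [h.g_sym, hv]
      rw [LinearMap.sub_apply, Module.End.one_apply, LinearEquiv.coe_coe, fr.decomp h.gN H.dW v, hwv, zero_smul,
        add_zero]
      simp only [map_add, map_smul, hrA]
      convert (h.A w).smul_mem (h.gW b₁ v / h.gW b₁ b₁) (hmid b₁ fr.za fr.z'a) using 1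
      module
    obtain ⟨b, hb, hYe⟩ := hY.eq_sh9 hG H hN hw0 hw
    refine ⟨e, he, r, hrM, b, hb, by rw [hr, mul_inv_cancel_left], ⟨_, ee'⟩, fun T => ?_⟩
    rw [← hYe]; simp
  obtain ⟨z, -, hz0, hz⟩ := Nice.exists_iso_in h₀.fU (⊤ : Submodule F U₀) (by rw [finrank_top, H₀.dU])
  obtain ⟨z', a, fz⟩ := h₀.fN.exists_frame3 H₀.dU hz0 hz
  obtain ⟨s, hs0, hs1⟩ := H.hex
  -- the unipotent elements of the first factor
  have hconj : ∀ {z z' a : U₀}, Frame3 h₀.fU z z' a → ∀ u y b,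
      h.c b (g (h₀.tp (h₀.shU z a u) y)) = lam (h₀.shU z a (lam.symm (h.c b (g (h₀.tp u y))))) := by
    intro z z' a₀ kz u y b
    set a := (s * s - 1)⁻¹ • a₀ with ha
    have hza : h₀.fU z a = 0 := by rw [ha, map_smul, kz.za, smul_zero]
    have hh : h₀.fU z ((1 / 2 : F) • a) = 0 := by rw [map_smul, hza, smul_zero]
    let γ₀ : Module.End F U₀ := s • h₀.rk z z' + s⁻¹ • h₀.rk z' z + (h₀.fU a₀ a₀)⁻¹ • h₀.rk a₀ a₀
    have hγ₀ : ∀ x y, h₀.fU (γ₀ x) (γ₀ y) = h₀.fU x y := fun x y => by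
      conv_rhs => rw [kz.decomp h₀.fN H₀.dU y]
      simp only [γ₀, LinearMap.add_apply, LinearMap.smul_apply, rk_apply, map_add, map_smul, smul_eq_mul, kz.iz,
        kz.iz', kz.zz', kz.z'z h₀.fN, kz.za, kz.z'a, kz.az h₀.fN, kz.az' h₀.fN, h₀.f_sym x z, h₀.f_sym x z',
        h₀.f_sym x a₀]
      have := kz.aa
      field_simp
      ring
    obtain ⟨hh', hhM, ehh⟩ := hG₀.sqU hV5 hγ₀
    obtain ⟨k, hk, ek⟩ := hG₀.sqU hV5 (fun x y => shU_isom hG₀ kz.iz hh x y)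
    obtain ⟨d, hd, ed⟩ := act_sh (h := h₀.swap) hG₀.swap kz.iz kz.za
    have ed' : ∀ u x, d (h₀.tp u x) = h₀.tp (h₀.shU z a₀ u) x := fun u x => ed x u
    have hcomm : d = hh' * k * hh'⁻¹ * k⁻¹ := by
      rw [eq_mul_inv_iff_mul_eq, eq_mul_inv_iff_mul_eq]
      refine h₀.equiv_ext fun u y => ?_
      simp only [LinearEquiv.mul_apply, ehh, ek, ed']
      congr 1
      congr 1
      have hz'z := kz.z'z h₀.fN
      have haz := kz.az h₀.fN
      have haz' := kz.az' h₀.fN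
      have := kz.aa
      have hs : s * s - 1 ≠ 0 := sub_ne_zero.2 hs1
      have hs' : s ^ 2 - 1 ≠ 0 := by rwa [pow_two]
      conv_rhs => rw [kz.decomp h₀.fN H₀.dU u]
      conv_lhs => rw [kz.decomp h₀.fN H₀.dU u]
      simp only [γ₀, ha, shU_apply, LinearMap.add_apply, LinearMap.smul_apply, rk_apply, map_add, map_sub, map_smul,
        smul_eq_mul, kz.iz, kz.iz', kz.zz', hz'z, kz.za, kz.z'a, haz, haz']
      match_scalars <;> field_simp <;> ring
    obtain ⟨e₁, he₁, r₁, hr₁, b₁', hb₁', q₁, ⟨η₁, ee₁⟩, er₁⟩ := hsq γ₀ hγ₀ hh' hhM ehh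
    obtain ⟨e₂, he₂, r₂, hr₂, b₂', hb₂', q₂, ⟨η₂, ee₂⟩, er₂⟩ := hsq _ (fun x y => shU_isom hG₀ kz.iz hh x y) k hk ek
    have cU : ∀ {e r : V ≃ₗ[F] V} {η : Module.End F U} {b : W}, e ∈ M → (∀ u y, e (h.tp u y) = h.tp (η u) y) →
        (∀ T, r T = T + h.sh w b 1 T) → Commute r e := fun he ee er => LinearEquiv.ext fun T => by
      rw [LinearEquiv.mul_apply, LinearEquiv.mul_apply, er, er, map_add, sh_commU hG he ee]
    have cS : Commute r₁ r₂ := LinearEquiv.ext fun T => by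
      rw [LinearEquiv.mul_apply, LinearEquiv.mul_apply, er₁, er₂, er₂, er₁, map_add, map_add,
        ← Module.End.mul_apply, ← Module.End.mul_apply, h.sh_mul hw hb₁' hb₂', h.sh_mul hw hb₂' hb₁',
        h.g_sym b₂' b₁']
      abel
    have hgd : g * d * g⁻¹ = e₁ * e₂ * e₁⁻¹ * e₂⁻¹ := by
      rw [← comm_of_mul (cU he₁ ee₁ er₁) (cU he₂ ee₂ er₁) (cU he₁ ee₁ er₂) (cU he₂ ee₂ er₂) cS, ← q₁, ← q₂, hcomm]
      group
    have hEM : e₁ * e₂ * e₁⁻¹ * e₂⁻¹ ∈ M :=
      mul_mem (mul_mem (mul_mem he₁ he₂) (inv_mem he₁)) (inv_mem he₂)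
    have hinv : ∀ {e : V ≃ₗ[F] V} {η : Module.End F U}, (∀ u y, e (h.tp u y) = h.tp (η u) y) →
        ∃ i : Module.End F U, ∀ u y, e⁻¹ (h.tp u y) = h.tp (i u) y := by
      intro e η ee
      have hi := (Pure.bij (h := h) (lam := η) (S := 1) ee).1
      refine ⟨(LinearEquiv.ofBijective η hi).symm.toLinearMap, fun u y => ?_⟩
      obtain ⟨p, rfl⟩ := hi.2 u
      show e.symm _ = _
      rw [← ee, e.symm_apply_apply, LinearEquiv.coe_coe]
      congr 2
      exact ((LinearEquiv.ofBijective η hi).symm_apply_apply p).symm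
    obtain ⟨η, hη⟩ : ∃ η : Module.End F U, ∀ u y, (e₁ * e₂ * e₁⁻¹ * e₂⁻¹) (h.tp u y) = h.tp (η u) y := by
      obtain ⟨i₁, f₁⟩ := hinv ee₁
      obtain ⟨i₂, f₂⟩ := hinv ee₂
      exact ⟨η₁ * η₂ * i₁ * i₂, fun u y => by
        simp only [LinearEquiv.mul_apply, f₁, f₂, ee₁, ee₂, Module.End.mul_apply]⟩
    rw [← hgd] at hη hEM
    have hval : ∀ p, η p = lam (h₀.shU z a₀ (lam.symm p)) := fun p => by
      apply h.tp_injective hw0
      rw [LinearMap.flip_apply, LinearMap.flip_apply, ← hη]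
      show g (d (g.symm (h.tp p w))) = _
      rw [hgs, ed', hl]
    rw [← hval, ← c_actU hG.le hEM hη]
    congr 1
    show _ = g (d (g.symm (g (h₀.tp u y))))
    rw [g.symm_apply_apply, ed']
  have hpure : ∀ b y, ∃ κ : F, ∀ u, h.c b (g (h₀.tp u y)) = κ • lam u := fun b y => by
    let T : Module.End F U₀ := lam.symm.toLinearMap ∘ₗ h.c b ∘ₗ g.toLinearMap ∘ₗ h₀.tp.flip y
    have hT : ∀ {z z' a : U₀}, Frame3 h₀.fU z z' a → ∀ u, T (h₀.shU z a u) = h₀.shU z a (T u) := fun kz u => by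
      simp only [T, LinearMap.comp_apply, LinearEquiv.coe_coe, LinearMap.flip_apply,
        hconj kz u y b, lam.symm_apply_apply]
    obtain ⟨κ, hκ⟩ := schur3 H₀.toThreeU fz (hT fz) (hT (fz.swap h₀.fN))
    refine ⟨κ, fun u => ?_⟩
    have := congrArg lam (hκ u)
    simpa [T] using this
  obtain ⟨u₀, hu₀⟩ := exists_ne (0 : U₀)
  obtain ⟨a₀, ha₀⟩ := h.fN.exists_one (fun e => hu₀ (lam.map_eq_zero_iff.1 e) : lam u₀ ≠ 0)
  let Λ : W₀ →ₗ[F] Module.Dual F W :=
    LinearMap.mk₂ F (fun y x => h.fU a₀ (h.c x (g (h₀.tp u₀ y))))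
      (fun y y' x => by simp) (fun s y x => by simp) (fun y x x' => by simp) (fun s y x => by simp)
  let σ : W₀ →ₗ[F] W := (h.gW.toDual h.gN.nd).symm.toLinearMap ∘ₗ Λ
  have hσ : ∀ y x, h.gW (σ y) x = h.fU a₀ (h.c x (g (h₀.tp u₀ y))) := fun y x => by
    show h.gW _ x = _
    exact LinearMap.BilinForm.apply_toDual_symm_apply (hB := h.gN.nd) (Λ y) x
  refine ⟨lam.toLinearMap, σ, fun u y => sub_eq_zero.1 (h.eq_zero_of_c fun b => ?_)⟩
  obtain ⟨κ, hκ⟩ := hpure b y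
  have hk : h.gW b (σ y) = κ := by
    rw [h.g_sym, hσ, hκ, map_smul, ha₀, smul_eq_mul, mul_one]
  rw [map_sub, hκ, LinearEquiv.coe_coe, h.c_tp, hk, sub_self]

/-- An element sending a short element into the second factor is a product. -/
theorem maps_of_short_image {g : V ≃ₗ[F] V} (hg : g ∈ M) {w b : W₀} (hw0 : w ≠ 0) (hw : h₀.gW w w = 0)
    (hb : h₀.gW w b = 0) (hbb : h₀.gW b b ≠ 0) {x : V ≃ₗ[F] V} (ex : ∀ T, x T = T + h₀.sh w b 1 T)
    {S : Module.End F W} (eS : ∀ u y, (g * x * g⁻¹) (h.tp u y) = h.tp u (S y)) : MapsPure h₀ h g := by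
  have e1 : ∀ u y, g (h₀.sh w b 1 (g.symm (h.tp u y))) = h.tp u ((S - 1) y) := fun u y => by
    have e := eS u y
    rw [LinearEquiv.mul_apply, LinearEquiv.mul_apply, show g⁻¹ (h.tp u y) = g.symm (h.tp u y) from rfl, ex, map_add,
      g.apply_symm_apply] at e
    rw [LinearMap.sub_apply, Module.End.one_apply, map_sub, ← e, add_sub_cancel_left]
  set N : Module.End F W := (S - 1) * (S - 1) with hNdef
  have e2 : ∀ u y, h.tp u (N y) = g (-(h₀.gW b b • h₀.tp (h₀.c w (g.symm (h.tp u y))) w)) := fun u y => by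
    rw [hNdef, Module.End.mul_apply, ← e1 u ((S - 1) y), ← e1 u y, g.symm_apply_apply, sh_sq hw hb]
  obtain ⟨y₀, hy₀⟩ : ∃ y, N y ≠ 0 := by
    by_contra hno
    push Not at hno
    obtain ⟨u₀, hu₀⟩ := exists_ne (0 : U₀)
    obtain ⟨w', hw', hww'⟩ := h₀.gN.exists_partner hw0 hw
    have e : h₀.tp.flip w ∘ₗ h₀.c w ∘ₗ g.symm.toLinearMap = 0 := h.ext_tp fun u y => by
      have e3 := e2 u y
      rw [hno, map_zero] at e3
      have e4 := g.injective (e3.symm.trans (map_zero g).symm)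
      rw [neg_eq_zero, smul_eq_zero] at e4
      simpa using e4.resolve_left hbb
    have := LinearMap.congr_fun e (g (h₀.tp u₀ w'))
    simp only [LinearMap.comp_apply, LinearEquiv.coe_coe, g.symm_apply_apply, h₀.c_tp, hww', one_smul,
      LinearMap.flip_apply, LinearMap.zero_apply] at this
    exact h₀.tp_ne_zero hu₀ hw0 this
  set w₁ := N y₀ with hw₁
  have hle : h.A w₁ ≤ (h₀.A w).map g.toLinearMap := by
    rintro _ ⟨u, rfl⟩
    rw [LinearMap.flip_apply, hw₁, e2]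
    exact Submodule.mem_map_of_mem ((h₀.A w).neg_mem ((h₀.A w).smul_mem _ (h₀.tp_mem_A _ _)))
  have heq := Submodule.eq_of_le_of_finrank_eq hle (by
    rw [h.finrank_A hy₀, g.finrank_map_eq, h₀.finrank_A hw0, H.dU, H₀.dU])
  have hmap : ∀ u, g (h₀.tp u w) ∈ h.A w₁ := fun u => by
    rw [heq]; exact Submodule.mem_map_of_mem (h₀.tp_mem_A _ _)
  obtain ⟨u, hu⟩ := h.fN.exists_aniso
  have hw₁w₁ : h.gW w₁ w₁ = 0 := by
    have h0 : Q (h.tp u w₁) = 0 := by
      obtain ⟨p, hp⟩ := hle (h.tp_mem_A u w₁)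
      rw [← hp.2, LinearEquiv.coe_coe, mem_orth.1 (hG.le hg)]
      obtain ⟨r, hr⟩ := hp.1
      rw [← hr, LinearMap.flip_apply, h₀.Q_tp_zero r hw]
    exact (mul_eq_zero.1 (show h.fU u u * h.gW w₁ w₁ = 0 by rw [← h.Q_tp, h0, mul_zero])).resolve_left hu
  exact maps_of_member hG₀ H₀ hN₀ hG H hN hg hw0 hw hy₀ hw₁w₁ hmap

end TData

end CfsgLib.TensorOO
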