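import Cfsg.Agent.Lib.OrthMax.TensorOO.Four.CentSigma
import Cfsg.Agent.Lib.OrthMax.TensorOO.Nine.Member
import Cfsg.Agent.Lib.OrthMax.TensorOO.Nine.Centralise

/-! Members commuting with a half turn of the first factor are products. -/

set_option autoImplicit false
set_option linter.unusedSectionVars false
set_option linter.unusedVariables false
set_option linter.unusedSimpArgs false

namespace CfsgLib.TensorOO

open QuadraticMap CfsgLib.Geometry CfsgLib.OrthMax
open CfsgLib.TensorSp (In)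
open LinearMap (BilinForm)

variable {F V U W : Type*} [Field F] [Finite F] [AddCommGroup V] [Module F V] [AddCommGroup U] [Module F U]
  [AddCommGroup W] [Module F W]
variable [FiniteDimensional F V] [FiniteDimensional F U] [FiniteDimensional F W]
variable {Q : QuadraticForm F V} {M : Subgroup (V ≃ₗ[F] V)}

namespace TData

variable {h : TData Q U W} [Nontrivial U] [Nontrivial W]

variable (hG : h.Gens M) (H : h.Nine) (hN : h.NoZ M)

include hG H hN

/-- An element keeping a short element and fixing a slice acts on the first factor only. -/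
theorem actU_of_comm9 {k : V ≃ₗ[F] V} (hk : k ∈ M) {e : U} (he : h.fU e e ≠ 0)
    (hfix : ∀ v, k (h.tp e v) = h.tp e v) {w b : W} (hw0 : w ≠ 0) (hw : h.gW w w = 0) (hb : h.gW w b = 0)
    (hbb : h.gW b b ≠ 0) (hc : ∀ T, k (h.sh w b 1 T) = h.sh w b 1 (k T)) :
    ∃ γ : Module.End F U, ∀ u y, k (h.tp u y) = h.tp (γ u) y := by
  obtain ⟨w', hw', hww'⟩ := h.gN.exists_partner hw0 hw
  have hmap : ∀ u, k (h.tp u w) ∈ h.A w := fun u => by
    have e1 := sh_sq (h := h) hw hb (h.tp u w')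
    rw [h.c_tp, hww', one_smul] at e1
    have e2 := congrArg k e1
    rw [hc, hc, sh_sq hw hb, map_neg, map_smul, neg_inj] at e2
    rw [← smul_right_injective V hbb e2]
    exact h.tp_mem_A _ _
  obtain ⟨lam, S, ek⟩ := maps_of_member hG H hN hG H hN hk hw0 hw hw0 hw hmap
  have he0 : e ≠ 0 := fun e' => he (by rw [e', map_zero])
  obtain ⟨b1, b2⟩ := Pure.bij ek
  obtain ⟨e', he'⟩ := h.fN.exists_one he0
  have hS : ∀ v, v = h.fU e' (lam e) • S v := fun v => sub_eq_zero.1 (by
    by_contra hne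
    refine h.tp_ne_zero he0 hne (h.eq_zero_of_c fun x => ?_)
    have e1 := congrArg (h.c x) ((ek e v).symm.trans (hfix v))
    rw [h.c_tp, h.c_tp] at e1
    have e2 := congrArg (h.fU e') e1
    rw [map_smul, map_smul, he', smul_eq_mul, smul_eq_mul, mul_one] at e2
    simp only [map_sub, map_smul, c_tp, smul_smul, ← sub_smul]
    rw [show h.gW x v - h.fU e' (lam e) * h.gW x (S v) = 0 by linear_combination -e2, zero_smul])
  have hκ : h.fU e' (lam e) ≠ 0 := fun e0 => by
    obtain ⟨v, hv⟩ := exists_ne (0 : W)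
    exact hv (by rw [hS v, e0, zero_smul])
  refine ⟨(h.fU e' (lam e))⁻¹ • lam, fun u y => ?_⟩
  rw [ek]
  conv_rhs => rw [hS y]
  rw [LinearMap.smul_apply, map_smul, map_smul, LinearMap.smul_apply, smul_smul, mul_inv_cancel₀ hκ, one_smul]


/-- A member commuting with a half turn is a product. -/
theorem cent_sigma_pure9 {g : V ≃ₗ[F] V} (hg : g ∈ M) {e : U} (he : h.fU e e ≠ 0) {s : V ≃ₗ[F] V} (hs : s ∈ M)
    (es : ∀ u v, s (h.tp u v) = h.tp (h.sigma e u) v) (hc : g * s = s * g) : h.Pure g := by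
  classical
  haveI := finite_equiv (F := F) (V := V)
  obtain ⟨p, hp⟩ := CharP.exists F
  haveI := Fact.mk (CharP.char_is_prime F p)
  have he0 : e ≠ 0 := fun e' => he (by rw [e', map_zero])
  have hgo := hG.le hg
  -- the slice
  obtain ⟨ρ, hρ⟩ := exists_sigma (h := h) g ((h.fU e e)⁻¹ • e) e
  have hge : ∀ v, g (h.tp e v) = h.tp e (ρ v) := fun v => sub_eq_zero.1 (h.eq_zero_of_c fun x => by
    have hfix : h.sigma e (h.c x (g (h.tp e v))) = h.c x (g (h.tp e v)) := by
      rw [← c_actU hG.le hs es]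
      congr 1
      have := LinearEquiv.congr_fun hc (h.tp e v)
      rw [LinearEquiv.mul_apply, LinearEquiv.mul_apply, es, h.sigma_self he] at this
      exact this.symm
    obtain ⟨κ, hκ⟩ := Submodule.mem_span_singleton.1 (h.sigma_fixed hfix)
    have e1 := hρ v x
    rw [← hκ, map_smul, map_smul, LinearMap.smul_apply, smul_eq_mul, smul_eq_mul, inv_mul_cancel₀ he, mul_one] at e1
    rw [map_sub, h.c_tp, h.g_sym x, e1, hκ, sub_self])
  have hρi : ∀ v v', h.gW (ρ v) (ρ v') = h.gW v v' := fun v v' => by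
    have := orth_polar hgo (h.tp e v) (h.tp e v')
    rw [hge, hge, h.pol, h.pol] at this
    exact mul_left_cancel₀ he this
  have hρs : Function.Surjective ρ := LinearMap.injective_iff_surjective.1 <| (injective_iff_map_eq_zero _).2
    fun v hv => h.gN.nd.1 v fun v' => by rw [← hρi, hv, map_zero, LinearMap.zero_apply]
  obtain ⟨w, -, hw0, hw⟩ := Nice.exists_iso_in h.gW (⊤ : Submodule F W) (by rw [finrank_top, H.dW])
  obtain ⟨w', b₁, fr⟩ := h.gN.exists_frame3 H.dW hw0 hw
  set A := shGrp h M hw with hAdef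
  have mkA : ∀ b, h.gW w b = 0 → ∃ x ∈ A, ∀ T, x T = T + h.sh w b 1 T := fun b hb => by
    obtain ⟨x, hx, ex⟩ := in_sh hG hw hb
    exact ⟨x, ⟨hx, b, hb, ex⟩, ex⟩
  have hAc : ∀ a ∈ A, ∀ a' ∈ A, a * a' = a' * a := by
    rintro a ⟨-, x, hx, ea⟩ a' ⟨-, y, hy, ea'⟩
    refine LinearEquiv.ext fun T => ?_
    rw [LinearEquiv.mul_apply, LinearEquiv.mul_apply, ea, ea', ea', ea, map_add, map_add, ← Module.End.mul_apply,
      ← Module.End.mul_apply, h.sh_mul hw hx hy, h.sh_mul hw hy hx, h.g_sym y x]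
    abel
  haveI : IsMulCommutative A := ⟨⟨fun a b => Subtype.ext (hAc a a.2 b b.2)⟩⟩
  have hAU : ∀ a ∈ A, ∀ k ∈ M, ∀ γ : Module.End F U, (∀ u y, k (h.tp u y) = h.tp (γ u) y) → a * k = k * a := by
    rintro a ⟨-, b, hb, ea⟩ k hk γ ek
    refine LinearEquiv.ext fun T => ?_
    rw [LinearEquiv.mul_apply, LinearEquiv.mul_apply, ea, ea, map_add, sh_commU hG hk ek]
  have hAp : IsPGroup p A := fun a => ⟨1, Subtype.ext (LinearEquiv.ext fun T => by
    obtain ⟨-, b, hb, ea⟩ := a.2
    rw [pow_one, SubmonoidClass.coe_pow, sh_pow hw hb ea, CharP.cast_eq_zero F p, zero_smul, sh_zero]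
    simp)⟩
  have hAcard := hAp.exists_card_eq
  have hAcyc : p < 5 → ¬ IsCyclic A := fun hp5 hcy => by
    haveI := Fintype.ofFinite F
    obtain ⟨a, ha⟩ := IsCyclic.exists_monoid_generator (α := A)
    obtain ⟨-, b, hb, ea⟩ := a.2
    have hn : ∀ v, h.gW w v = 0 → ∃ n : ℕ, ∀ y, h.gW w y = 0 → h.gW v y = (n : F) * h.gW b y := fun v hv => by
      obtain ⟨x, hx, ex⟩ := mkA v hv
      obtain ⟨n, hn⟩ := Submonoid.mem_powers_iff _ _ |>.1 (ha ⟨x, hx⟩)
      refine ⟨n, fun y hy => ?_⟩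
      obtain ⟨u, hu⟩ := exists_ne (0 : U)
      have e1 := ex (h.tp u y)
      rw [← show (a : V ≃ₗ[F] V) ^ n = x from congrArg Subtype.val hn, sh_pow hw hb ea, add_right_inj, sh_one_tp,
        sh_one_tp, hy] at e1
      simp only [zero_smul, mul_zero, sub_zero, map_smul, LinearMap.smul_apply, smul_eq_mul] at e1
      have e2 := sub_eq_zero.2 e1
      rw [← sub_smul, smul_eq_zero] at e2
      exact (sub_eq_zero.1 (e2.resolve_right (h.tp_ne_zero hu hw0))).symm
    have hall : ∀ t : F, ∃ n : ℕ, t = (n : F) * (h.gW b b₁ / h.gW b₁ b₁) := fun t => by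
      obtain ⟨n, hn1⟩ := hn (t • b₁) (by rw [map_smul, fr.za, smul_zero])
      have e := hn1 b₁ fr.za
      rw [map_smul, LinearMap.smul_apply, smul_eq_mul] at e
      exact ⟨n, by rw [mul_div_assoc', eq_div_iff fr.aa, e]⟩
    let φ : Fin p → F := fun i => (i.val : F) * (h.gW b b₁ / h.gW b₁ b₁)
    have hsur : Function.Surjective φ := fun t => by
      obtain ⟨n, rfl⟩ := hall t
      refine ⟨⟨n % p, Nat.mod_lt _ (Fact.out : p.Prime).pos⟩, ?_⟩
      show ((n % p : ℕ) : F) * _ = _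
      rw [show ((n % p : ℕ) : F) = (n : F) by
        conv_rhs => rw [← Nat.mod_add_div n p]
        push_cast
        rw [CharP.cast_eq_zero F p, zero_mul, add_zero]]
    have hcard := Fintype.card_le_of_surjective φ hsur
    rw [Fintype.card_fin] at hcard
    obtain ⟨c, hc0, hc1⟩ := H.hex
    have h4 : 4 ≤ Fintype.card F := by
      classical
      have hne : c ≠ 1 ∧ c ≠ -1 := ⟨fun e => hc1 (by rw [e, one_mul]), fun e => hc1 (by rw [e]; ring)⟩
      have h11 : (1 : F) ≠ -1 := fun e => h.h2 (by linear_combination e)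
      have h3 : ({c, 0, 1, -1} : Finset F).card = 4 := by
        rw [Finset.card_insert_of_notMem (by simp [hc0, hne.1, hne.2]),
          Finset.card_insert_of_notMem (by simp), Finset.card_pair h11]
      exact h3 ▸ Finset.card_le_univ _
    have h4' : p ≠ 4 := fun e => by
      have h := (Fact.out : p.Prime)
      rw [e] at h
      norm_num at h
    omega
  -- the kernel on the slice
  let K : Subgroup (V ≃ₗ[F] V) :=
    { carrier := {k | k ∈ M ∧ k * s = s * k ∧ ∀ v, k (h.tp e v) = h.tp e v}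
      one_mem' := ⟨one_mem M, by rw [one_mul, mul_one], fun v => rfl⟩
      mul_mem' := fun {k l} hk hl => ⟨mul_mem hk.1 hl.1, by rw [mul_assoc, hl.2.1, ← mul_assoc, hk.2.1, mul_assoc],
        fun v => by rw [LinearEquiv.mul_apply, hl.2.2, hk.2.2]⟩
      inv_mem' := fun {k} hk => ⟨inv_mem hk.1, ((show Commute k s from hk.2.1).inv_left).eq,
        fun v => k.injective (by rw [show k (k⁻¹ (h.tp e v)) = h.tp e v from k.apply_symm_apply _, hk.2.2])⟩ }
  have hAs : ∀ a ∈ A, a * s = s * a := fun a ha => hAU a ha s hs _ es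
  have hAe : ∀ a ∈ A, ∀ v, ∃ v', a (h.tp e v) = h.tp e v' := by
    rintro a ⟨-, b, hb, ea⟩ v
    exact ⟨_, by rw [ea, sh_one_tp, ← map_add]⟩
  have hnorm : ∀ a ∈ A, ∀ k ∈ K, a * k * a⁻¹ ∈ K := fun a ha k hk => by
    refine ⟨mul_mem (mul_mem ha.1 hk.1) (inv_mem ha.1), ?_, fun v => ?_⟩
    · exact (((show Commute a s from hAs a ha).mul_left (show Commute k s from hk.2.1)).mul_left
        (show Commute a s from hAs a ha).inv_left).eq
    · obtain ⟨v', hv'⟩ := hAe a⁻¹ (inv_mem ha) v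
      rw [LinearEquiv.mul_apply, LinearEquiv.mul_apply, hv', hk.2.2, ← hv']
      exact a.apply_symm_apply _
  have hAK : A ≤ Subgroup.normalizer (K : Set (V ≃ₗ[F] V)) := fun a ha =>
    Subgroup.mem_normalizer_iff.2 fun k => ⟨hnorm a ha k, fun hk => by
      have := hnorm a⁻¹ (inv_mem ha) _ hk
      rwa [inv_inv, show a⁻¹ * (a * k * a⁻¹) * a = k by group] at this⟩
  have hone : ∀ k ∈ K, ∀ a ∈ A, a ≠ 1 → a * k = k * a →
      ∃ γ : Module.End F U, ∀ u y, k (h.tp u y) = h.tp (γ u) y := by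
    rintro k hk a ⟨haM, b, hb, ea⟩ ha1 hka
    have hbb : h.gW b b ≠ 0 := fun hbb => ha1 (LinearEquiv.ext fun T => by
      obtain ⟨t, rfl⟩ := Submodule.mem_span_singleton.1 (H.noPair hw0 hw hbb hb)
      rw [ea, sh_apply, adj_one]
      simp [hw])
    refine actU_of_comm9 hG H hN hk.1 he hk.2.2 hw0 hw hb hbb fun T => ?_
    have := LinearEquiv.congr_fun hka T
    rw [LinearEquiv.mul_apply, LinearEquiv.mul_apply, ea, ea, map_add, add_right_inj] at this
    exact this.symm
  obtain ⟨x₁, hx₁, ex₁⟩ := mkA b₁ fr.za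
  have hx₁1 : x₁ ≠ 1 := fun e1 => by
    obtain ⟨u, hu⟩ := exists_ne (0 : U)
    have e2 := ex₁ (h.tp u b₁)
    rw [e1, LinearEquiv.coe_one, id_eq, sh_one_tp, fr.za] at e2
    simp only [zero_smul, mul_zero, sub_zero, map_smul] at e2
    exact (smul_ne_zero fr.aa (h.tp_ne_zero hu hw0)) (add_left_cancel (a := h.tp u b₁) (by rw [← e2, add_zero]))
  have hpK : ¬ p ∣ Nat.card K := fun hd => by
    obtain ⟨x, hx, hx1, hxp, hxA⟩ := exists_centralized_pelt hAp hAK hd
    obtain ⟨γ, eγ⟩ := hone x hx x₁ hx₁ hx₁1 (hxA x₁ hx₁)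
    obtain ⟨v₀, hv₀⟩ := h.gN.exists_aniso
    have hv₀0 : v₀ ≠ 0 := fun e' => hv₀ (by rw [e', map_zero])
    have hγi : ∀ u u', h.fU (γ u) (γ u') = h.fU u u' := fun u u' => by
      have := orth_polar (hG.le hx.1) (h.tp u v₀) (h.tp u' v₀)
      rw [eγ, eγ, h.pol, h.pol] at this
      exact mul_right_cancel₀ hv₀ this
    have hγe : γ e = e := h.tp_injective hv₀0 ((eγ e v₀).symm.trans (hx.2.2 v₀))
    have hpw : ∀ (n : ℕ) u v, (x ^ n) (h.tp u v) = h.tp ((γ ^ n : Module.End F U) u) v := fun n => by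
      induction n with
      | zero => intro u v; rfl
      | succ n ih => intro u v; rw [pow_succ', LinearEquiv.mul_apply, ih, eγ, pow_succ']; rfl
    have hγp : γ ^ p = 1 := LinearMap.ext fun u => h.tp_injective hv₀0 (by
      have := hpw p u v₀
      rw [hxp] at this
      exact this.symm)
    exact hx1 (h.equiv_ext fun u y => by rw [eγ, uni_fix H.toThreeU hγi he hγe hγp u]; rfl)
  have hcop : (Nat.card A).Coprime (Nat.card K) := by
    obtain ⟨n, hn⟩ := hAcard
    rw [hn]
    exact Nat.Coprime.pow_left _ ((Nat.Prime.coprime_iff_not_dvd Fact.out).2 hpK)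
  have hKA : K ≤ Subgroup.centralizer (A : Set (V ≃ₗ[F] V)) := by
    rcases Nat.lt_or_ge p 5 with hp5 | hp5
    swap
    · haveI : Nontrivial V := Module.nontrivial_of_finrank_pos (R := F) (by rw [finrank_V9 H]; norm_num)
      refine fun k hk => Subgroup.mem_centralizer_iff.2 fun a ha => ?_
      obtain ⟨-, b, hb, ea⟩ := id (show a ∈ A from ha)
      refine commute_of_cube (p := p) hp5 hpK (fun k hk => hnorm a ha k hk) ?_ ?_ k hk
      · refine LinearEquiv.ext fun T => ?_
        rw [sh_pow hw hb ea, CharP.cast_eq_zero F p, zero_smul, sh_zero]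
        simp
      · refine LinearMap.ext fun T => ?_
        simp only [pow_succ, pow_zero, one_mul, Module.End.mul_apply, LinearMap.sub_apply, Module.End.one_apply,
          LinearEquiv.coe_coe, ea, add_sub_cancel_left, LinearMap.zero_apply]
        rw [sh_sq hw hb]
        simp [sh_apply, hw, hb]
    refine Coprime.le_of_centralizer_le_of_not_isCyclic (hAcyc hp5) hAK hcop fun a ha ha1 k hk => ?_
    have hka : a * k = k * a := Subgroup.mem_centralizer_iff.1 hk.2 a rfl
    obtain ⟨γ, eγ⟩ := hone k hk.1 a ha ha1 hka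
    exact Subgroup.mem_centralizer_iff.2 fun a' ha' => hAU a' ha' k hk.1.1 γ eγ
  -- the image of a short element
  obtain ⟨x', hx', ex'⟩ := in_sh hG (w := ρ w) (a := ρ b₁) (by rw [hρi, hw]) (by rw [hρi, fr.za])
  set r := x'⁻¹ * (g * x₁ * g⁻¹) with hrdef
  have hx's : x' * s = s * x' := LinearEquiv.ext fun T => by
    rw [LinearEquiv.mul_apply, LinearEquiv.mul_apply, ex', ex', map_add, sh_commU hG hs es]
  have hrK : r ∈ K := by
    refine ⟨mul_mem (inv_mem hx') (mul_mem (mul_mem hg hx₁.1) (inv_mem hg)), ?_, fun v => ?_⟩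
    · exact ((show Commute x' s from hx's).inv_left.mul_left (((show Commute g s from hc).mul_left
        (show Commute x₁ s from hAs x₁ hx₁)).mul_left (show Commute g s from hc).inv_left)).eq
    · obtain ⟨v, rfl⟩ := hρs v
      show x'.symm (g (x₁ (g.symm (h.tp e (ρ v))))) = _
      rw [LinearEquiv.symm_apply_eq, show g.symm (h.tp e (ρ v)) = h.tp e v by rw [LinearEquiv.symm_apply_eq, hge],
        ex₁, ex', map_add, hge, sh_one_tp, sh_one_tp, hge]
      simp only [hρi, map_sub, map_smul]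
  obtain ⟨γ, eγ⟩ := hone r hrK x₁ hx₁ hx₁1 (Subgroup.mem_centralizer_iff.1 (hKA hrK) x₁ hx₁)
  have hgx : g * x₁ * g⁻¹ = x' * r := by rw [hrdef, mul_inv_cancel_left]
  clear_value r
  have hxr : Commute x' r := LinearEquiv.ext fun T => by
    rw [LinearEquiv.mul_apply, LinearEquiv.mul_apply, ex', ex', map_add, sh_commU hG hrK.1 eγ]
  have hpow : ∀ {w b : W} {x : V ≃ₗ[F] V}, h.gW w w = 0 → h.gW w b = 0 → (∀ T, x T = T + h.sh w b 1 T) →
      x ^ p = 1 := fun hw hb ex => LinearEquiv.ext fun T => by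
    rw [sh_pow hw hb ex, CharP.cast_eq_zero F p, zero_smul, sh_zero]
    simp
  have hrp : r ^ p = 1 := by
    have e1 : (g * x₁ * g⁻¹) ^ p = 1 := by rw [conj_pow, hpow hw fr.za ex₁, mul_one, mul_inv_cancel]
    rw [hgx, hxr.mul_pow, hpow (by rw [hρi, hw]) (by rw [hρi, fr.za]) ex', one_mul] at e1
    exact e1
  obtain ⟨S, eS⟩ := pelem H.toThreeU he es (hG.le hrK.1) ⟨γ, 1, eγ⟩ hrp hrK.2.1
  have hr1 : r = 1 := h.equiv_ext fun u y => by
    have e1 : S y = y := sub_eq_zero.1 (by
      by_contra hne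
      refine h.tp_ne_zero he0 hne ?_
      rw [map_sub, ← eS, hrK.2.2, sub_self])
    rw [eS, e1]
    rfl
  rw [hr1, mul_one] at hgx
  refine maps_of_short_image hG H hN hG H hN hg hw0 hw fr.za fr.aa ex₁ (S := h.shW (ρ w) (ρ b₁)) fun u y => ?_
  rw [hgx, ex', sh_one_tp, shW_apply]
  simp only [map_add, map_sub]
  abel

end TData

end CfsgLib.TensorOO
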