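import Cfsg.Agent.Lib.OrthMax.TensorOO.Nine.Invol

/-! No member exchanging the factors is conjugate to a half turn. -/

set_option autoImplicit false
set_option linter.unusedSectionVars false
set_option linter.unusedVariables false
set_option linter.unusedSimpArgs false

namespace CfsgLib.TensorOO

open QuadraticMap CfsgLib.Geometry CfsgLib.OrthMax
open LinearMap (BilinForm)

variable {F V U W : Type*} [Field F] [Finite F] [AddCommGroup V] [Module F V] [AddCommGroup U] [Module F U]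
  [AddCommGroup W] [Module F W]
variable [FiniteDimensional F V] [FiniteDimensional F U] [FiniteDimensional F W]
variable {Q : QuadraticForm F V} {M : Subgroup (V ≃ₗ[F] V)}

namespace TData

variable {h : TData Q U W} [Nontrivial U] [Nontrivial W]

/-- An involution exchanging the factors. -/
theorem swap_form (H : h.Nine) {w : V ≃ₗ[F] V} (hwo : w ∈ orth Q) (hw : MapsPure h h.swap w) (hw2 : w * w = 1) :
    ∃ (lam : U ≃ₗ[F] W) (κ c : F), κ * κ = 1 ∧ c ≠ 0 ∧ (∀ x x', h.gW (lam x) (lam x') = c * h.fU x x') ∧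
      ∀ u u', w (h.tp u (lam u')) = κ • h.tp u' (lam u) := by
  obtain ⟨lam₀, S, ew⟩ := hw
  have ew' : ∀ u y, w (h.tp u y) = h.tp (S y) (lam₀ u) := ew
  obtain ⟨b1, b2⟩ := MapsPure.bij (h₀ := h) (h := h.swap) (by rw [H.dU, H.dW]) (by rw [H.dU, H.dW]) ew
  set lam : U ≃ₗ[F] W := LinearEquiv.ofBijective lam₀ b1 with hlam
  have ew'' : ∀ u y, w (h.tp u y) = h.tp (S y) (lam u) := ew'
  have hww : ∀ u y, h.tp (S (lam u)) (lam (S y)) = h.tp u y := fun u y => by
    rw [← ew'', ← ew'', ← LinearEquiv.mul_apply, hw2]; rfl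
  obtain ⟨y₀, hy₀⟩ := h.gN.exists_aniso
  have hy0 : y₀ ≠ 0 := fun e => hy₀ (by rw [e, map_zero])
  have hS0 : lam (S y₀) ≠ 0 := fun e => hy0 (b2.1 (by rw [lam.map_eq_zero_iff.1 e, map_zero]))
  obtain ⟨d, hd⟩ := h.gN.exists_one hS0
  set κ := h.gW d y₀ with hκ
  have hSl : ∀ u, S (lam u) = κ • u := fun u => by
    have := congrArg (h.c d) (hww u y₀)
    rwa [h.c_tp, h.c_tp, hd, one_smul] at this
  have ew3 : ∀ u u', w (h.tp u (lam u')) = κ • h.tp u' (lam u) := fun u u' => by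
    rw [ew'', hSl, map_smul, LinearMap.smul_apply]
  obtain ⟨x, hx⟩ := h.fN.exists_aniso
  have hx0 : x ≠ 0 := fun e => hx (by rw [e, map_zero])
  have hκ2 : κ * κ = 1 := by
    have e1 : κ • κ • h.tp x (lam x) = (1 : F) • h.tp x (lam x) := by
      rw [← ew3, ← map_smul w, ← ew3, ← LinearEquiv.mul_apply, hw2, one_smul]; rfl
    rw [smul_smul] at e1
    exact smul_left_injective F (h.tp_ne_zero hx0 fun e => hx0 (lam.map_eq_zero_iff.1 e)) e1
  have key : ∀ u u', h.gW (lam u) (lam u') * h.fU (S y₀) (S y₀) = h.fU u u' * h.gW y₀ y₀ := fun u u' => by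
    have e1 := orth_polar hwo (h.tp u y₀) (h.tp u' y₀)
    rw [ew'', ew'', h.pol, h.pol] at e1
    rw [mul_comm]; exact e1
  have hS : h.fU (S y₀) (S y₀) ≠ 0 := fun e => by
    have := key x x
    rw [e, mul_zero] at this
    exact mul_ne_zero hx hy₀ this.symm
  refine ⟨lam, κ, h.gW y₀ y₀ / h.fU (S y₀) (S y₀), hκ2, div_ne_zero hy₀ hS, fun u u' => ?_, ew3⟩
  rw [div_mul_eq_mul_div, eq_div_iff hS, key, mul_comm]

/-- An involution exchanging the factors does not have a fixed space of dimension five. -/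
theorem fix_swap_ne_five (H : h.Nine) {w : V ≃ₗ[F] V} (hwo : w ∈ orth Q) (hw : MapsPure h h.swap w)
    (hw2 : w * w = 1) : Module.finrank F (fixSp w) ≠ 5 := by
  obtain ⟨lam, κ, c, hκ, hc, hsim, ew⟩ := swap_form H hwo hw hw2
  obtain ⟨y₁, y₂, y₃, μ, hμ, e1, e2, e3, e12, e13, e23⟩ := exists_equal_basis H
  have h2 := h.h2
  let T : Fin 6 → V := ![h.tp y₁ (lam y₁), h.tp y₂ (lam y₂), h.tp y₃ (lam y₃),
    h.tp y₁ (lam y₂) + h.tp y₂ (lam y₁), h.tp y₁ (lam y₃) + h.tp y₃ (lam y₁), h.tp y₂ (lam y₃) + h.tp y₃ (lam y₂)]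
  have hli : LinearIndependent F T := by
    refine Fintype.linearIndependent_iff.2 fun a ha => ?_
    have ha' : a 0 • h.tp y₁ (lam y₁) + a 1 • h.tp y₂ (lam y₂) + a 2 • h.tp y₃ (lam y₃) +
        a 3 • (h.tp y₁ (lam y₂) + h.tp y₂ (lam y₁)) + a 4 • (h.tp y₁ (lam y₃) + h.tp y₃ (lam y₁)) +
        a 5 • (h.tp y₂ (lam y₃) + h.tp y₃ (lam y₂)) = 0 := by
      rw [← ha, Fin.sum_univ_six]; rfl
    have k : ∀ p q, h.fU p (h.c (lam q) (a 0 • h.tp y₁ (lam y₁) + a 1 • h.tp y₂ (lam y₂) + a 2 • h.tp y₃ (lam y₃) +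
        a 3 • (h.tp y₁ (lam y₂) + h.tp y₂ (lam y₁)) + a 4 • (h.tp y₁ (lam y₃) + h.tp y₃ (lam y₁)) +
        a 5 • (h.tp y₂ (lam y₃) + h.tp y₃ (lam y₂)))) = 0 := fun p q => by rw [ha', map_zero, map_zero]
    have k11 := k y₁ y₁
    have k22 := k y₂ y₂
    have k33 := k y₃ y₃
    have k12 := k y₁ y₂
    have k13 := k y₁ y₃
    have k23 := k y₂ y₃
    simp only [map_add, map_smul, h.c_tp, hsim, h.f_sym y₂ y₁, h.f_sym y₃ y₁, h.f_sym y₃ y₂, e1, e2, e3, e12, e13,
      e23, smul_eq_mul, mul_zero, zero_mul, add_zero, zero_add] at k11 k22 k33 k12 k13 k23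
    intro i
    fin_cases i
    · exact (mul_eq_zero.1 k11).resolve_right (mul_ne_zero (mul_ne_zero hc hμ) hμ)
    · exact (mul_eq_zero.1 k22).resolve_right (mul_ne_zero (mul_ne_zero hc hμ) hμ)
    · exact (mul_eq_zero.1 k33).resolve_right (mul_ne_zero (mul_ne_zero hc hμ) hμ)
    · exact (mul_eq_zero.1 k12).resolve_right (mul_ne_zero (mul_ne_zero hc hμ) hμ)
    · exact (mul_eq_zero.1 k13).resolve_right (mul_ne_zero (mul_ne_zero hc hμ) hμ)
    · exact (mul_eq_zero.1 k23).resolve_right (mul_ne_zero (mul_ne_zero hc hμ) hμ)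
  have hT : ∀ i, w (T i) = κ • T i := fun i => by
    fin_cases i <;> simp [T, ew, map_add, add_comm]
  have hw2' : ∀ v, w.toLinearMap (w.toLinearMap v) = v := fun v => LinearEquiv.congr_fun hw2 v
  have c1 := Submodule.finrank_add_eq_of_isCompl (isCompl_eig h2 hw2')
  rw [finrank_V9 H] at c1
  have h6 := finrank_span_eq_card hli
  rw [Fintype.card_fin] at h6
  intro h5
  unfold fixSp at h5
  rcases mul_self_eq_one_iff.1 hκ with k | k
  · have := Submodule.finrank_mono (show Submodule.span F (Set.range T) ≤ LinearMap.ker (w.toLinearMap - 1) from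
      Submodule.span_le.2 (by rintro _ ⟨i, rfl⟩; simp [hT i, k]))
    omega
  · have := Submodule.finrank_mono (show Submodule.span F (Set.range T) ≤ LinearMap.ker (w.toLinearMap + 1) from
      Submodule.span_le.2 (by rintro _ ⟨i, rfl⟩; simp [hT i, k]))
    omega

/-- A product commuting with a half turn in normal form. -/
theorem form_sigma {e : U} (he : h.fU e e ≠ 0) {s k : V ≃ₗ[F] V}
    (es : ∀ u v, s (h.tp u v) = h.tp (h.sigma e u) v) (hk : k ∈ orth Q) (hP : h.Pure k) (hc : Commute k s) :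
    ∃ (γ : Module.End F U) (T : Module.End F W), (∀ u v, k (h.tp u v) = h.tp (γ u) (T v)) ∧ γ e = e ∧
      ∀ x x', h.fU (γ x) (γ x') = h.fU x x' := by
  obtain ⟨lam, S, ek⟩ := hP
  obtain ⟨b1, b2⟩ := Pure.bij ek
  obtain ⟨v₀, hv₀⟩ := h.gN.exists_aniso
  have hv₀0 : v₀ ≠ 0 := fun e' => hv₀ (by rw [e', map_zero])
  have hS0 : S v₀ ≠ 0 := fun e' => hv₀0 (b2.1 (by rw [e', map_zero]))
  have hfix : h.sigma e (lam e) = lam e := h.tp_injective hS0 (by
    rw [LinearMap.flip_apply, LinearMap.flip_apply, ← es, ← ek]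
    have := LinearEquiv.congr_fun hc.eq (h.tp e v₀)
    rw [LinearEquiv.mul_apply, LinearEquiv.mul_apply, es, h.sigma_self he] at this
    exact this.symm)
  obtain ⟨κ, hκ⟩ := Submodule.mem_span_singleton.1 (h.sigma_fixed hfix)
  have he0 : e ≠ 0 := fun e' => he (by rw [e', map_zero])
  have hκ0 : κ ≠ 0 := fun e' => he0 (b1.1 (by rw [← hκ, e', zero_smul, map_zero]))
  have ek' : ∀ u v, k (h.tp u v) = h.tp ((κ⁻¹ • lam) u) ((κ • S) v) := fun u v => by
    rw [ek]
    simp [smul_smul, mul_inv_cancel₀ hκ0]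
  have hge : (κ⁻¹ • lam) e = e := by rw [LinearMap.smul_apply, ← hκ, smul_smul, inv_mul_cancel₀ hκ0, one_smul]
  refine ⟨_, _, ek', hge, ?_⟩
  obtain ⟨c, hc'⟩ := exists_mult hk ek'
  have hc1 : c = 1 := by
    have := hc' e e
    rw [hge] at this
    exact mul_right_cancel₀ he (by rw [one_mul]; exact this.symm)
  intro x x'
  rw [hc', hc1, one_mul]

/-- Squares of isometries fixing an anisotropic vector commute. -/
theorem sq_commute (H : h.ThreeU) {e : U} (he : h.fU e e ≠ 0) {γ δ : Module.End F U}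
    (hγ : ∀ x x', h.fU (γ x) (γ x') = h.fU x x') (hγe : γ e = e)
    (hδ : ∀ x x', h.fU (δ x) (δ x') = h.fU x x') (hδe : δ e = e) (u : U) :
    γ (γ (δ (δ u))) = δ (δ (γ (γ u))) := by
  obtain ⟨a, a', hea, hea', haa', haa, ha'a', hU⟩ := exists_orth3 H he
  have key : ∀ γ : Module.End F U, (∀ x x', h.fU (γ x) (γ x') = h.fU x x') → γ e = e →
      ∃ x y : F, γ (γ a) = x • a + y • a' ∧ γ (γ a') = (-(h.fU a' a' / h.fU a a) * y) • a + x • a' := by
    intro γ hγ hγe
    set A := h.fU a a with hA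
    set A' := h.fU a' a' with hA'
    have h0 : ∀ v, h.fU e v = 0 → h.fU e (γ v) = 0 := fun v hv => by rw [← hv, ← hγ e v, hγe]
    obtain ⟨p, q, eq1⟩ : ∃ p q : F, γ a = p • a + q • a' :=
      ⟨h.fU a (γ a) / A, h.fU a' (γ a) / A', by
        conv_lhs => rw [hU (γ a), h0 a hea, zero_div, zero_smul, zero_add]⟩
    obtain ⟨r, t, eq2⟩ : ∃ r t : F, γ a' = r • a + t • a' :=
      ⟨h.fU a (γ a') / A, h.fU a' (γ a') / A', by
        conv_lhs => rw [hU (γ a'), h0 a' hea', zero_div, zero_smul, zero_add]⟩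
    have i1 := hγ a a
    have i2 := hγ a' a'
    have i3 := hγ a a'
    simp only [eq1, eq2, map_add, map_smul, LinearMap.add_apply, LinearMap.smul_apply, smul_eq_mul,
      h.f_sym a' a, haa', ← hA, ← hA', mul_zero, add_zero, zero_add] at i1 i2 i3
    set d := p * t - q * r with hd
    have d1 : t * A = p * d * A := by linear_combination (-t) * i1 + q * i3
    have d2 : r * A = -(d * q * A') := by linear_combination (-r) * i1 + p * i3
    have d3 : d * d = 1 := by
      refine mul_right_cancel₀ (mul_ne_zero haa ha'a') ?_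
      linear_combination (r * r * A + t * t * A') * i1 + A * i2 - (p * r * A + q * t * A') * i3
    have g1 : γ (γ a) = (p * p + q * r) • a + (q * (p + t)) • a' := by
      rw [eq1, map_add, map_smul, map_smul, eq1, eq2]; module
    have g2 : γ (γ a') = (r * (p + t)) • a + (q * r + t * t) • a' := by
      rw [eq2, map_add, map_smul, map_smul, eq1, eq2]; module
    have ht : t = p * d := mul_right_cancel₀ haa d1
    refine ⟨p * p + q * r, q * (p + t), g1, ?_⟩
    rw [g2]
    have hr : r = -(d * q * A') / A := by rw [eq_div_iff haa]; exact d2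
    congr 1
    · congr 1
      rcases mul_self_eq_one_iff.1 d3 with k | k <;> rw [ht, hr, k] <;> field_simp <;> ring
    · congr 1
      rw [ht]; linear_combination p * p * d3
  obtain ⟨x, y, k1, k2⟩ := key γ hγ hγe
  obtain ⟨z, v, l1, l2⟩ := key δ hδ hδe
  conv_lhs => rw [hU u]
  conv_rhs => rw [hU u]
  simp only [map_add, map_smul, hγe, hδe, k1, k2, l1, l2]
  module

variable (hG : h.Gens M) (H : h.Nine) (hN : h.NoZ M) (hP : ∀ k ∈ siegelGroup Q, h.Pure k → k ∈ M)

include hG H hP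

/-- Diagonal half turns. -/
theorem exists_diag {lam : U ≃ₗ[F] W} {c : F} (hc : c ≠ 0) (hsim : ∀ x x', h.gW (lam x) (lam x') = c * h.fU x x')
    {v : U} (hv : h.fU v v ≠ 0) :
    ∃ k ∈ M, ∀ u u', k (h.tp u (lam u')) = h.tp (h.sigma v u) (lam (h.sigma v u')) := by
  obtain ⟨a, a', hva, hva', haa', haa, ha'a', hU⟩ := exists_orth3 H.toThreeU hv
  have hl : ∀ x x', h.swap.fU (lam x) (lam x') = c * h.fU x x' := hsim
  obtain ⟨k₁, e₁, i₁⟩ := exists_sigma_orth H hv haa ha'a' hva hva' haa'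
  obtain ⟨k₂, e₂, i₂⟩ := exists_sigma_orth (h := h.swap) H.swap (e := lam v) (a := lam a) (a' := lam a')
    (by rw [hl]; exact mul_ne_zero hc hv) (by rw [hl]; exact mul_ne_zero hc haa)
    (by rw [hl]; exact mul_ne_zero hc ha'a') (by rw [hl, hva, mul_zero]) (by rw [hl, hva', mul_zero])
    (by rw [hl, haa', mul_zero])
  have e₂' : ∀ u y, (k₂ : V ≃ₗ[F] V) (h.tp u y) = h.tp u (h.swap.sigma (lam v) y) := fun u y => e₂ y u
  have hint : ∀ u, h.swap.sigma (lam v) (lam u) = lam (h.sigma v u) := fun u => by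
    rw [sigma_apply, sigma_apply, hl, hl, map_sub, map_smul]
    congr 2
    field_simp
  refine ⟨((k₁ * k₂ : orth Q) : V ≃ₗ[F] V), hP _ ?_ ⟨h.sigma v, h.swap.sigma (lam v), fun u y => ?_⟩,
    fun u u' => ?_⟩
  · refine (mem_commutator_iff_siegelGroup h.qnd (five_le H) _).1 ?_
    rw [← ker_orthInvariant h.qnd (by have := five_le H; omega) h.h2 (reflGroup_eq_orth_of_two_ne h.qnd h.h2),
      MonoidHom.mem_ker, map_mul, i₁, i₂]
    refine Prod.ext (show sqHom F _ * sqHom F _ = 1 from ?_) (mul_one _)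
    rw [← map_mul]
    refine (sqHom_eq_one_iff _).2 ⟨c * (h.fU a a * h.fU a' a'), ?_⟩
    simp only [Units.val_mul, Units.val_mk0, hl]
    ring
  · show (k₁ : V ≃ₗ[F] V) ((k₂ : V ≃ₗ[F] V) (h.tp u y)) = _
    rw [e₂', e₁]
  · show (k₁ : V ≃ₗ[F] V) ((k₂ : V ≃ₗ[F] V) (h.tp u (lam u'))) = _
    rw [e₂', e₁, hint]

include hN

/-- A member exchanging the factors is not conjugate to a half turn. -/
theorem not_conj_swap {e : U} (he : h.fU e e ≠ 0) {s g w : V ≃ₗ[F] V} (hs : s ∈ M) (hg : g ∈ M)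
    (es : ∀ u y, s (h.tp u y) = h.tp (h.sigma e u) y) (hc : g * s * g⁻¹ = w) (hw : MapsPure h h.swap w) : False := by
  have hwM : w ∈ M := hc ▸ mul_mem (mul_mem hg hs) (inv_mem hg)
  have hs2 : s * s = 1 := h.equiv_ext fun u y => by rw [LinearEquiv.mul_apply, es, es, h.sigma_sq he]; rfl
  have hw2 : w * w = 1 := by rw [← hc, conj_mul, hs2, mul_one, mul_inv_cancel]
  obtain ⟨lam, κ, c, hκ, hcc, hsim, ew⟩ := swap_form H (hG.le hwM) hw hw2
  let D : (V ≃ₗ[F] V) → Module.End F U → Prop := fun k γ =>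
    k ∈ M ∧ ∀ u u', k (h.tp u (lam u')) = h.tp (γ u) (lam (γ u'))
  have hext : ∀ {k k' : V ≃ₗ[F] V}, (∀ u u', k (h.tp u (lam u')) = k' (h.tp u (lam u'))) → k = k' := fun e1 =>
    h.equiv_ext fun u y => by rw [← lam.apply_symm_apply y]; exact e1 _ _
  have Dcomm : ∀ {k γ}, D k γ → k * w = w * k := fun hk => hext fun u u' => by
    rw [LinearEquiv.mul_apply, LinearEquiv.mul_apply, ew, map_smul, hk.2, hk.2, ew]
  have hform : ∀ {k γ}, D k γ → (∀ u, γ (γ u) = u) → ∃ (δ : Module.End F U) (T : Module.End F W),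
      (∀ u v, (g⁻¹ * k * g) (h.tp u v) = h.tp (δ u) (T v)) ∧ δ e = e ∧
        (∀ x x', h.fU (δ x) (δ x') = h.fU x x') ∧ ∀ u, δ (δ u) = u := by
    intro k γ hk hγ2
    have hk' : g⁻¹ * k * g ∈ M := mul_mem (mul_mem (inv_mem hg) hk.1) hg
    have hcs : g⁻¹ * k * g * s = s * (g⁻¹ * k * g) := by
      rw [show s = g⁻¹ * w * g by rw [← hc]; group]
      calc _ = g⁻¹ * (k * w) * g := by group
        _ = g⁻¹ * (w * k) * g := by rw [Dcomm hk]
        _ = _ := by group
    obtain ⟨δ, T, eδ, hδe, hδ⟩ := form_sigma he es (hG.le hk') (cent_sigma_pure9 hG H hN hk' he hs es hcs) hcs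
    have hkk : k * k = 1 := hext fun u u' => by rw [LinearEquiv.mul_apply, hk.2, hk.2, hγ2, hγ2]; rfl
    have hk2 : ∀ u v, h.tp (δ (δ u)) (T (T v)) = h.tp u v := fun u v => by
      rw [← eδ, ← eδ, ← LinearEquiv.mul_apply,
        show g⁻¹ * k * g * (g⁻¹ * k * g) = g⁻¹ * (k * k) * g by group, hkk, mul_one, inv_mul_cancel]
      rfl
    have he0 : e ≠ 0 := fun e' => he (by rw [e', map_zero])
    have hT : ∀ v, T (T v) = v := fun v => sub_eq_zero.1 (by
      by_contra hne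
      refine h.tp_ne_zero he0 hne ?_
      have := hk2 e v
      rw [hδe, hδe] at this
      rw [map_sub, this, sub_self])
    obtain ⟨v, hv⟩ := exists_ne (0 : W)
    exact ⟨δ, T, eδ, hδe, hδ, fun u => h.tp_injective hv (by
      have := hk2 u v
      rw [hT] at this
      exact this)⟩
  obtain ⟨y₁, y₂, y₃, μ, hμ, e1, e2, e3, e12, e13, e23⟩ := exists_equal_basis H
  have h2 := h.h2
  have hμμ : (2 : F) * μ ≠ 0 := mul_ne_zero h2 hμ
  have f21 : h.fU y₂ y₁ = 0 := by rw [h.f_sym]; exact e12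
  have f31 : h.fU y₃ y₁ = 0 := by rw [h.f_sym]; exact e13
  have f32 : h.fU y₃ y₂ = 0 := by rw [h.f_sym]; exact e23
  have na : h.fU (y₁ - y₂) (y₁ - y₂) = 2 * μ := by
    simp only [map_sub, LinearMap.sub_apply, e1, e2, e12, f21]; ring
  have nb : h.fU (y₂ - y₃) (y₂ - y₃) = 2 * μ := by
    simp only [map_sub, LinearMap.sub_apply, e2, e3, e23, f32]; ring
  have nb' : h.fU (y₂ + y₃) (y₂ + y₃) = 2 * μ := by
    simp only [map_add, LinearMap.add_apply, e2, e3, e23, f32]; ring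
  have ha : h.fU (y₁ - y₂) (y₁ - y₂) ≠ 0 := by rw [na]; exact hμμ
  have hb : h.fU (y₂ - y₃) (y₂ - y₃) ≠ 0 := by rw [nb]; exact hμμ
  have hb' : h.fU (y₂ + y₃) (y₂ + y₃) ≠ 0 := by rw [nb']; exact hμμ
  obtain ⟨ka, kaM, eka⟩ := exists_diag hG H hP hcc hsim ha
  obtain ⟨kb, kbM, ekb⟩ := exists_diag hG H hP hcc hsim hb
  obtain ⟨kb', kb'M, ekb'⟩ := exists_diag hG H hP hcc hsim hb'
  set A := h.sigma (y₁ - y₂)
  set B := h.sigma (y₂ - y₃)
  set C := h.sigma (y₂ + y₃)
  set d := ka * kb * ka * kb * (ka * kb' * ka * kb') * (kb * ka * kb * ka) * (kb' * ka * kb' * ka) with hd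
  have hAB : ∀ u, A (B (A (B (A (C (A (C (B (A (B (A (C (A (C (A u))))))))))))))) = h.sigma y₂ u := by
    intro u
    have hy : h.fU y₂ y₂ ≠ 0 := by rw [e2]; exact hμ
    have s2 : h.sigma y₂ y₂ = y₂ := h.sigma_self hy
    have s1 : h.sigma y₂ y₁ = -y₁ := h.sigma_perp f21
    have s3 : h.sigma y₂ y₃ = -y₃ := h.sigma_perp e23
    have a1 : A y₁ = -y₂ := by
      simp only [A]
      rw [sigma_apply, na]
      simp only [map_sub, LinearMap.sub_apply, e1, f21, sub_zero]
      rw [mul_div_assoc, ← mul_div_assoc, div_self hμμ]; module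
    have a2 : A y₂ = -y₁ := by
      simp only [A]
      rw [sigma_apply, na]
      simp only [map_sub, LinearMap.sub_apply, e2, e12, zero_sub]
      rw [mul_neg, neg_div, div_self hμμ]; module
    have a3 : A y₃ = -y₃ := h.sigma_perp (by simp [e13, e23])
    have b1 : B y₁ = -y₁ := h.sigma_perp (by simp [f21, f31])
    have b2 : B y₂ = -y₃ := by
      simp only [B]
      rw [sigma_apply, nb]
      simp only [map_sub, LinearMap.sub_apply, e2, f32, sub_zero]
      rw [div_self hμμ]; module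
    have b3 : B y₃ = -y₂ := by
      simp only [B]
      rw [sigma_apply, nb]
      simp only [map_sub, LinearMap.sub_apply, e3, e23, zero_sub]
      rw [mul_neg, neg_div, div_self hμμ]; module
    have c1 : C y₁ = -y₁ := h.sigma_perp (by simp [f21, f31])
    have c2 : C y₂ = y₃ := by
      simp only [C]
      rw [sigma_apply, nb']
      simp only [map_add, LinearMap.add_apply, e2, f32, add_zero]
      rw [div_self hμμ]; module
    have c3 : C y₃ = y₂ := by
      simp only [C]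
      rw [sigma_apply, nb']
      simp only [map_add, LinearMap.add_apply, e3, e23, zero_add]
      rw [div_self hμμ]; module
    obtain ⟨p, q, r, hu⟩ : ∃ p q r : F, u = p • y₁ + q • y₂ + r • y₃ := by
      have hli : LinearIndependent F ![y₁, y₂, y₃] := by
        refine Fintype.linearIndependent_iff.2 fun f hf => ?_
        have hf' : f 0 • y₁ + f 1 • y₂ + f 2 • y₃ = 0 := by rw [← hf, Fin.sum_univ_three]; rfl
        have k1 := congrArg (h.fU y₁) hf'
        have k2 := congrArg (h.fU y₂) hf'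
        have k3 := congrArg (h.fU y₃) hf'
        simp [e1, e2, e3, e12, e13, e23, f21, f31, f32, hμ] at k1 k2 k3
        intro i
        fin_cases i <;> assumption
      have hsp := hli.span_eq_top_of_card_eq_finrank (by rw [H.dU]; simp)
      obtain ⟨f, hf⟩ := Submodule.mem_span_range_iff_exists_fun F |>.1 (hsp ▸ Submodule.mem_top : u ∈ _)
      exact ⟨f 0, f 1, f 2, by rw [← hf, Fin.sum_univ_three]; rfl⟩
    simp only [hu, map_add, map_smul, map_neg, a1, a2, a3, b1, b2, b3, c1, c2, c3, s1, s2, s3, neg_neg]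
  have hdM : d ∈ M := by
    rw [hd]
    repeat' apply mul_mem
    all_goals assumption
  have hy : h.fU y₂ y₂ ≠ 0 := by rw [e2]; exact hμ
  have hyl : h.gW (lam y₂) (lam y₂) ≠ 0 := by rw [hsim]; exact mul_ne_zero hcc hy
  have ed : ∀ u y, d (h.tp u y) = h.tp (h.sigma y₂ u) (h.swap.sigma (lam y₂) y) := fun u y => by
    have hint : h.swap.sigma (lam y₂) y = lam (h.sigma y₂ (lam.symm y)) := by
      conv_lhs => rw [← lam.apply_symm_apply y]
      have hl : ∀ x x', h.swap.fU (lam x) (lam x') = c * h.fU x x' := hsim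
      rw [sigma_apply, sigma_apply, hl, hl, map_sub, map_smul]
      congr 2
      field_simp
    rw [hint]
    conv_lhs => rw [← lam.apply_symm_apply y]
    simp only [hd, LinearEquiv.mul_apply, eka, ekb, ekb', hAB]
  obtain ⟨a', Ta, ea, hae, hai, ha2⟩ := hform (k := ka) (γ := A) ⟨kaM, eka⟩ (h.sigma_sq ha)
  obtain ⟨b', Tb, eb, hbe, hbi, hb2⟩ := hform (k := kb) (γ := B) ⟨kbM, ekb⟩ (h.sigma_sq hb)
  obtain ⟨c', Tc, ec, hce, hci, hc2⟩ := hform (k := kb') (γ := C) ⟨kb'M, ekb'⟩ (h.sigma_sq hb')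
  set S : Module.End F W := Ta * Tb * Ta * Tb * (Ta * Tc * Ta * Tc) * (Tb * Ta * Tb * Ta) * (Tc * Ta * Tc * Ta)
  set d' := g⁻¹ * d * g with hd'
  have hd'e : d' = g⁻¹ * ka * g * (g⁻¹ * kb * g) * (g⁻¹ * ka * g) * (g⁻¹ * kb * g) *
      ((g⁻¹ * ka * g) * (g⁻¹ * kb' * g) * (g⁻¹ * ka * g) * (g⁻¹ * kb' * g)) *
      ((g⁻¹ * kb * g) * (g⁻¹ * ka * g) * (g⁻¹ * kb * g) * (g⁻¹ * ka * g)) *
      ((g⁻¹ * kb' * g) * (g⁻¹ * ka * g) * (g⁻¹ * kb' * g) * (g⁻¹ * ka * g)) := by
    rw [hd', hd]; group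
  have hU : ∀ u, a' (b' (a' (b' (a' (c' (a' (c' (b' (a' (b' (a' (c' (a' (c' (a' u))))))))))))))) = u := by
    intro u
    have := sq_commute H.toThreeU he (γ := a' * b') (δ := a' * c')
      (fun x x' => by simp [Module.End.mul_apply, hai, hbi]) (by simp [Module.End.mul_apply, hae, hbe])
      (fun x x' => by simp [Module.End.mul_apply, hai, hci]) (by simp [Module.End.mul_apply, hae, hce])
      (b' (a' (b' (a' (c' (a' (c' (a' u))))))))
    simp only [Module.End.mul_apply] at this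
    rw [this]
    simp [ha2, hb2, hc2]
  have ed' : ∀ u y, d' (h.tp u y) = h.tp ((1 : Module.End F U) u) (S y) := fun u y => by
    simp only [S, hd'e, LinearEquiv.mul_apply, ea, eb, ec, hU, Module.End.mul_apply, Module.End.one_apply]
  have hdd : d * d = 1 := h.equiv_ext fun u y => by
    rw [LinearEquiv.mul_apply, ed, ed, h.sigma_sq hy, h.swap.sigma_sq hyl]; rfl
  have hS : ∀ y, S (S y) = y := fun y => by
    obtain ⟨u, hu⟩ := exists_ne (0 : U)
    refine sub_eq_zero.1 (by_contra fun hne => h.tp_ne_zero hu hne ?_)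
    have : h.tp u (S (S y)) = h.tp u y := by
      have e0 := ed' u (S y)
      have e1 := ed' u y
      simp only [Module.End.one_apply] at e0 e1
      rw [← e1, ← LinearEquiv.mul_apply, hd', show g⁻¹ * d * g * (g⁻¹ * d * g) = g⁻¹ * (d * d) * g by group,
        hdd, mul_one, inv_mul_cancel] at e0
      simpa using e0.symm
    rw [map_sub, this, sub_self]
  have h5 := fix_sigma_sigma H hy hyl ed
  rw [← finrank_fixSp_conj g⁻¹ d, inv_inv, ← hd', finrank_fix_prod (h := h) ed' hS] at h5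
  have h1 : LinearMap.ker ((1 : Module.End F U) + 1) = ⊥ := by
    ext u
    simp [← two_smul F u, h2]
  rw [h1, sub_self, LinearMap.ker_zero, finrank_top, finrank_bot, H.dU] at h5
  omega

end TData

end CfsgLib.TensorOO
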