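import Cfsg.Agent.Lib.OrthMax.TensorOO.Nine.CentSigma
import Cfsg.Agent.Lib.OrthMax.TensorOO.Four.Invol

/-! Product involutions of a tensor square of three-dimensional spaces. -/

set_option autoImplicit false
set_option linter.unusedSectionVars false
set_option linter.unusedVariables false
set_option linter.unusedSimpArgs false

namespace CfsgLib.TensorOO

open QuadraticMap CfsgLib.Geometry CfsgLib.OrthMax
open CfsgLib.TensorSp (In)
open LinearMap (BilinForm)

section Group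

variable {G : Type*} [Group G] [Finite G]

/-- Two involutions are conjugate, or centralise a common involution permuting their classes. -/
theorem invol_pair' (i j : G) (hi : i * i = 1) (hj : j * j = 1) :
    (∃ q ∈ Subgroup.closure {i, j}, q * i * q⁻¹ = j) ∨ ∃ k ∈ Subgroup.closure {i, j}, k ≠ 1 ∧ k * k = 1 ∧
      k * i = i * k ∧ k * j = j * k ∧
        (((∃ q ∈ Subgroup.closure {i, j}, q * i * q⁻¹ = i * k) ∧ ∃ q ∈ Subgroup.closure {i, j}, q * j * q⁻¹ = j * k) ∨
          ((∃ q ∈ Subgroup.closure {i, j}, q * j * q⁻¹ = i * k) ∧ ∃ q ∈ Subgroup.closure {i, j}, q * i * q⁻¹ = j * k)) := by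
  set d := i * j with hd
  have hdm : d ∈ Subgroup.closure ({i, j} : Set G) :=
    mul_mem (Subgroup.subset_closure (by simp)) (Subgroup.subset_closure (by simp))
  have hi' : i⁻¹ = i := inv_eq_of_mul_eq_one_left hi
  have hj' : j⁻¹ = j := inv_eq_of_mul_eq_one_left hj
  have hinv : ∀ n : ℕ, i * d ^ n = d⁻¹ ^ n * i := fun n => by
    have h1 : i * d * i⁻¹ = d⁻¹ := by
      rw [hd, mul_inv_rev, hi', hj', ← mul_assoc, hi, one_mul]
    rw [← h1, conj_pow, inv_mul_cancel_right]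
  have hjd : j = i * d := by rw [hd, ← mul_assoc, hi, one_mul]
  rcases Nat.even_or_odd (orderOf d) with ⟨m, hm⟩ | ⟨m, hm⟩
  · right
    have ho := orderOf_pos d
    have hk1 : d ^ m ≠ 1 := pow_ne_one_of_lt_orderOf (by omega) (by omega)
    have hkk : d ^ m * d ^ m = 1 := by rw [← pow_add, ← hm, pow_orderOf_eq_one]
    have hki : d⁻¹ ^ m = d ^ m := by rw [inv_pow]; exact inv_eq_of_mul_eq_one_left hkk
    have hci : d ^ m * i = i * d ^ m := by rw [hinv, hki]
    have hjk : j * d ^ m = i * d ^ (m + 1) := by rw [hjd, mul_assoc, ← pow_succ']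
    refine ⟨d ^ m, pow_mem hdm m, hk1, hkk, hci, ?_, ?_⟩
    · rw [hjd, ← mul_assoc, hci, mul_assoc, mul_assoc, ← pow_succ, ← pow_succ']
    have hci' : ∀ n, d⁻¹ ^ n * i * (d⁻¹ ^ n)⁻¹ = i * d ^ (n + n) := fun n => by
      rw [← hinv, inv_pow, inv_inv, mul_assoc, ← pow_add]
    have hcj' : ∀ n, d⁻¹ ^ n * j * (d⁻¹ ^ n)⁻¹ = i * d ^ (n + n + 1) := fun n => by
      rw [hjd, ← mul_assoc, ← hinv, inv_pow, inv_inv, mul_assoc, mul_assoc, ← pow_succ', ← pow_add, add_assoc]
    rcases Nat.even_or_odd m with ⟨l, hl⟩ | ⟨l, hl⟩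
    · exact Or.inl ⟨⟨_, pow_mem (inv_mem hdm) l, by rw [hci', hl]⟩, ⟨_, pow_mem (inv_mem hdm) l, by rw [hcj', hjk, hl]⟩⟩
    · exact Or.inr ⟨⟨_, pow_mem (inv_mem hdm) l, by rw [hcj', hl, two_mul]⟩,
        ⟨_, pow_mem (inv_mem hdm) (l + 1), by rw [hci', hjk, hl, two_mul]; congr 2; omega⟩⟩
  · left
    refine ⟨d ^ m, pow_mem hdm m, ?_⟩
    have e : d ^ m = d⁻¹ ^ (m + 1) := by
      rw [inv_pow]
      refine eq_inv_of_mul_eq_one_left ?_
      rw [← pow_add, show m + (m + 1) = orderOf d by omega, pow_orderOf_eq_one]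
    conv_rhs => rw [hjd]
    rw [mul_inv_eq_iff_eq_mul, e, ← hinv, mul_assoc, ← e]
    congr 1
    rw [← pow_succ']

end Group

variable {F V U W : Type*} [Field F] [Finite F] [AddCommGroup V] [Module F V] [AddCommGroup U] [Module F U]
  [AddCommGroup W] [Module F W]
variable [FiniteDimensional F V] [FiniteDimensional F U] [FiniteDimensional F W]
variable {Q : QuadraticForm F V} {M : Subgroup (V ≃ₗ[F] V)}

namespace TData

/-- A half turn of one of the factors. -/
def IsHalf (h : TData Q U W) (k : V ≃ₗ[F] V) : Prop :=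
  (∃ e, h.fU e e ≠ 0 ∧ ∀ u y, k (h.tp u y) = h.tp (h.sigma e u) y) ∨
    ∃ f, h.gW f f ≠ 0 ∧ ∀ u y, k (h.tp u y) = h.tp u (h.swap.sigma f y)

variable {h : TData Q U W} [Nontrivial U] [Nontrivial W]

theorem pure_of_swap {g : V ≃ₗ[F] V} (hg : h.swap.Pure g) : h.Pure g := by
  obtain ⟨lam, S, e⟩ := hg
  exact ⟨S, lam, fun u y => e y u⟩

theorem ker_sigma (H : h.ThreeU) {e : U} (he : h.fU e e ≠ 0) :
    Module.finrank F (LinearMap.ker (h.sigma e - 1)) = 1 ∧ Module.finrank F (LinearMap.ker (h.sigma e + 1)) = 2 := by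
  have h1 : LinearMap.ker (h.sigma e - 1) = Submodule.span F {e} := by
    ext u
    simp only [LinearMap.mem_ker, LinearMap.sub_apply, Module.End.one_apply, sub_eq_zero]
    refine ⟨fun hu => h.sigma_fixed hu, fun hu => ?_⟩
    obtain ⟨c, rfl⟩ := Submodule.mem_span_singleton.1 hu
    rw [map_smul, h.sigma_self he]
  have c1 := Submodule.finrank_add_eq_of_isCompl (isCompl_eig h.h2 (h.sigma_sq he))
  rw [h1, finrank_span_singleton (fun e' => he (by rw [e', map_zero])), H.dU] at c1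
  exact ⟨by rw [h1, finrank_span_singleton (fun e' => he (by rw [e', map_zero]))], by omega⟩

theorem fix_sigma9 (H : h.Nine) {e : U} (he : h.fU e e ≠ 0) {s : V ≃ₗ[F] V}
    (es : ∀ u y, s (h.tp u y) = h.tp (h.sigma e u) y) : Module.finrank F (fixSp s) = 3 := by
  rw [finrank_fix_prod (h := h) (S := 1) es fun y => rfl]
  have h3 : LinearMap.ker ((1 : Module.End F W) + 1) = ⊥ := by
    ext y
    simp [← two_smul F y, h.h2]
  rw [h3, sub_self, LinearMap.ker_zero, finrank_top, finrank_bot, H.dW, (ker_sigma H.toThreeU he).1]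
  simp

theorem fix_sigma_sigma (H : h.Nine) {e : U} {f : W} (he : h.fU e e ≠ 0) (hf : h.gW f f ≠ 0) {s : V ≃ₗ[F] V}
    (es : ∀ u y, s (h.tp u y) = h.tp (h.sigma e u) (h.swap.sigma f y)) : Module.finrank F (fixSp s) = 5 := by
  rw [finrank_fix_prod (h := h) es (h.swap.sigma_sq hf), (ker_sigma H.toThreeU he).1, (ker_sigma H.toThreeU he).2,
    (ker_sigma (h := h.swap) H.swap.toThreeU hf).1, (ker_sigma (h := h.swap) H.swap.toThreeU hf).2]

/-- Commuting half turns are equal or orthogonal. -/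
theorem sigma_comm (H : h.ThreeU) {a b : U} (ha : h.fU a a ≠ 0) (hb : h.fU b b ≠ 0)
    (hc : ∀ u, h.sigma a (h.sigma b u) = h.sigma b (h.sigma a u)) :
    (∀ u, h.sigma b u = h.sigma a u) ∨
      ∃ c, h.fU c c ≠ 0 ∧ h.fU a c = 0 ∧ ∀ u, h.sigma a (h.sigma b u) = h.sigma c u := by
  have h2 := h.h2
  have hb0 : b ≠ 0 := fun e => hb (by rw [e, map_zero])
  have hfix : h.sigma b (h.sigma a b) = h.sigma a b := by rw [← hc, h.sigma_self hb]
  obtain ⟨κ, hκ⟩ := Submodule.mem_span_singleton.1 (h.sigma_fixed hfix)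
  have hκ2 : κ * κ = 1 := by
    have e1 := h.sigma_sq ha b
    rw [← hκ, map_smul, ← hκ, smul_smul] at e1
    exact smul_left_injective F hb0 (e1.trans (one_smul F b).symm)
  rcases mul_self_eq_one_iff.1 hκ2 with h' | h'
  · left
    rw [h', one_smul] at hκ
    obtain ⟨t, ht⟩ := Submodule.mem_span_singleton.1 (h.sigma_fixed hκ.symm)
    have ht0 : t ≠ 0 := fun e => hb0 (by rw [← ht, e, zero_smul])
    intro u
    rw [← ht, sigma_apply, sigma_apply]
    simp only [map_smul, LinearMap.smul_apply, smul_eq_mul, smul_smul]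
    congr 2
    field_simp
  · right
    rw [h', neg_one_smul] at hκ
    have hab : h.fU a b = 0 := by
      have e1 := hκ.symm
      rw [sigma_apply, sub_eq_neg_self, smul_eq_zero] at e1
      rcases e1 with e1 | e1
      · rw [div_eq_zero_iff] at e1
        exact (mul_eq_zero.1 (e1.resolve_right ha)).resolve_left h2
      · exact absurd (by rw [e1, map_zero]) ha
    have hNd : NdIn h.fU (⊤ ⊓ LinearMap.ker (h.fU a)) := h.fN.ndIn_inter h.fN.ndIn_top Submodule.mem_top ha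
    rw [top_inf_eq] at hNd
    have hd1 : Module.finrank F (LinearMap.ker (h.fU a)) + 1 = Module.finrank F U :=
      h.fN.finrank_ker fun e => ha (by rw [e, map_zero])
    have hd2 := Nice.finrank_inter (B := h.fU) (S := LinearMap.ker (h.fU a)) (e := b) hab hb
    have hdU := H.dU
    obtain ⟨c, ⟨hac, hbc⟩, hcc⟩ := h.fN.exists_aniso_nd (h.fN.ndIn_inter hNd hab hb) (by omega)
    simp only [SetLike.mem_coe, LinearMap.mem_ker] at hac hbc
    have hd3 := Nice.finrank_inter (B := h.fU) (S := LinearMap.ker (h.fU a) ⊓ LinearMap.ker (h.fU b)) (e := c)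
      ⟨hac, hbc⟩ hcc
    have hbot : LinearMap.ker (h.fU a) ⊓ LinearMap.ker (h.fU b) ⊓ LinearMap.ker (h.fU c) = ⊥ :=
      Submodule.finrank_eq_zero.1 (show Module.finrank F (LinearMap.ker (h.fU a) ⊓ LinearMap.ker (h.fU b) ⊓
        LinearMap.ker (h.fU c) : Submodule F U) = 0 by omega)
    refine ⟨c, hcc, hac, fun u => sub_eq_zero.1 ((Submodule.eq_bot_iff _).1 hbot _ ⟨⟨?_, ?_⟩, ?_⟩)⟩ <;>
      simp [sigma_apply, hab, hac, hbc, h.f_sym b a, h.f_sym c a, h.f_sym c b] <;> field_simp <;> ring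

/-- Products of commuting half turns in a tensor are unique. -/
theorem sigma_comm_of_tensor (H : h.ThreeU) {a b : U} (ha : h.fU a a ≠ 0) {B B' : Module.End F W}
    (hB : ∀ y, B' y = 0 → y = 0)
    (e : ∀ u y, h.tp (h.sigma a (h.sigma b u)) (B y) = h.tp (h.sigma b (h.sigma a u)) (B' y)) :
    (∀ y, B y = B' y) ∧ ∀ u, h.sigma a (h.sigma b u) = h.sigma b (h.sigma a u) := by
  have hd := Nice.finrank_ker_two (B := h.fU) a b
  have hdU := H.dU
  obtain ⟨n, hn, hn0⟩ := Submodule.exists_mem_ne_zero_of_ne_bot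
    (show LinearMap.ker (h.fU a) ⊓ LinearMap.ker (h.fU b) ≠ ⊥ from fun e' => by rw [e', finrank_bot] at hd; omega)
  obtain ⟨hna, hnb⟩ := hn
  simp only [SetLike.mem_coe, LinearMap.mem_ker] at hna hnb
  have e1 : h.sigma a (h.sigma b n) = n := by rw [h.sigma_perp hnb, map_neg, h.sigma_perp hna, neg_neg]
  have e2 : h.sigma b (h.sigma a n) = n := by rw [h.sigma_perp hna, map_neg, h.sigma_perp hnb, neg_neg]
  have hBB : ∀ y, B y = B' y := fun y => by
    by_contra hne
    refine h.tp_ne_zero hn0 (sub_ne_zero.2 hne) ?_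
    have := e n y
    rw [e1, e2] at this
    rw [map_sub, this, sub_self]
  refine ⟨hBB, fun u => ?_⟩
  obtain ⟨y, hy⟩ := exists_ne (0 : W)
  refine h.tp_injective (fun hz => hy (hB y hz) : B' y ≠ 0) ?_
  have := e u y
  rw [hBB] at this
  exact this

/-- A product involution consists of involutive isometries. -/
theorem invol_form (H : h.Nine) {k : V ≃ₗ[F] V} (hk : k ∈ orth Q) (hP : h.Pure k) (hk2 : k * k = 1) :
    ∃ (γ : Module.End F U) (T : Module.End F W), (∀ u y, k (h.tp u y) = h.tp (γ u) (T y)) ∧ (∀ u, γ (γ u) = u) ∧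
      (∀ y, T (T y) = y) ∧ (∀ x x', h.fU (γ x) (γ x') = h.fU x x') ∧ ∀ x x', h.gW (T x) (T x') = h.gW x x' := by
  obtain ⟨lam, S, ek⟩ := hP
  obtain ⟨b1, b2⟩ := Pure.bij ek
  have h2 := h.h2
  have hkk : ∀ u y, h.tp (lam (lam u)) (S (S y)) = h.tp u y := fun u y => by
    rw [← ek, ← ek, ← LinearEquiv.mul_apply, hk2]; rfl
  obtain ⟨u₀, hu₀⟩ := exists_ne (0 : U)
  obtain ⟨y₀, hy₀⟩ := exists_ne (0 : W)
  have hy₂ : S (S y₀) ≠ 0 := fun e' => hy₀ (b2.1 (b2.1 (by rw [e', map_zero, map_zero])))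
  obtain ⟨d, hd⟩ := h.gN.exists_one hy₂
  set κ := h.gW d y₀
  have hl2 : ∀ u, lam (lam u) = κ • u := fun u => by
    have := congrArg (h.c d) (hkk u y₀)
    rwa [h.c_tp, h.c_tp, hd, one_smul] at this
  have hκ0 : κ ≠ 0 := fun e' => hu₀ (b1.1 (b1.1 (by rw [hl2, e', zero_smul, map_zero, map_zero])))
  have hdet : LinearMap.det lam * LinearMap.det lam = κ * κ * κ := by
    rw [← map_mul, show lam * lam = κ • 1 from LinearMap.ext hl2, LinearMap.det_smul, map_one, mul_one, H.dU]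
    ring
  set r := LinearMap.det lam / κ with hr
  have hr2 : r * r = κ := by rw [hr]; field_simp; linear_combination hdet
  have hr0 : r ≠ 0 := fun e' => hκ0 (by rw [← hr2, e', zero_mul])
  set γ : Module.End F U := r⁻¹ • lam with hγdef
  set T : Module.End F W := r • S with hTdef
  have ek' : ∀ u y, k (h.tp u y) = h.tp (γ u) (T y) := fun u y => by
    rw [ek]
    simp [hγdef, hTdef, smul_smul, mul_inv_cancel₀ hr0]
  have hγ2 : ∀ u, γ (γ u) = u := fun u => by
    simp only [hγdef, LinearMap.smul_apply, map_smul, hl2, smul_smul]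
    rw [show r⁻¹ * (r⁻¹ * κ) = 1 by rw [← hr2]; field_simp, one_smul]
  have hT2 : ∀ y, T (T y) = y := fun y => sub_eq_zero.1 (by
    by_contra hne
    refine h.tp_ne_zero hu₀ hne ?_
    have : h.tp (γ (γ u₀)) (T (T y)) = h.tp u₀ y := by
      rw [← ek', ← ek', ← LinearEquiv.mul_apply, hk2]; rfl
    rw [hγ2] at this
    rw [map_sub, this, sub_self])
  obtain ⟨c, hc⟩ := exists_mult hk ek'
  obtain ⟨v, hv, hvv⟩ : ∃ v, (γ v = v ∨ γ v = -v) ∧ h.fU v v ≠ 0 := by
    have c1 := Submodule.finrank_add_eq_of_isCompl (isCompl_eig h2 hγ2)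
    rw [H.dU] at c1
    by_cases hh : 2 ≤ Module.finrank F (LinearMap.ker (γ - 1))
    · obtain ⟨v, hv, hvv⟩ := h.fN.exists_aniso_in (LinearMap.ker (γ - 1)) (by rw [H.dU]; omega)
      exact ⟨v, Or.inl (by simpa [sub_eq_zero] using hv), hvv⟩
    · obtain ⟨v, hv, hvv⟩ := h.fN.exists_aniso_in (LinearMap.ker (γ + 1)) (by rw [H.dU]; omega)
      exact ⟨v, Or.inr (by simpa [add_eq_zero_iff_eq_neg] using hv), hvv⟩
  have hc1 : c = 1 := by
    have := hc v v
    refine mul_right_cancel₀ hvv (Eq.trans this.symm ?_)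
    rcases hv with e | e <;> simp [e]
  have hγi : ∀ x x', h.fU (γ x) (γ x') = h.fU x x' := fun x x' => by rw [hc, hc1, one_mul]
  refine ⟨γ, T, ek', hγ2, hT2, hγi, fun x x' => ?_⟩
  have := orth_polar hk (h.tp v x) (h.tp v x')
  rw [ek', ek', h.pol, h.pol, hγi] at this
  exact mul_left_cancel₀ hvv this

theorem eq_one_of_ker {X : Type*} [AddCommGroup X] [Module F X] [FiniteDimensional F X] {T : Module.End F X}
    (h : Module.finrank F (LinearMap.ker (T - 1)) = Module.finrank F X) (y : X) : T y = y := by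
  have : (T - 1) y = 0 := LinearMap.mem_ker.1 ((Submodule.eq_top_of_finrank_eq h).symm ▸ Submodule.mem_top)
  rwa [LinearMap.sub_apply, Module.End.one_apply, sub_eq_zero] at this

theorem ker_neg_sub_one {X : Type*} [AddCommGroup X] [Module F X] (δ : Module.End F X) :
    LinearMap.ker (-δ - 1) = LinearMap.ker (δ + 1) := by
  ext u
  simp only [LinearMap.mem_ker, LinearMap.sub_apply, LinearMap.neg_apply, LinearMap.add_apply]
  rw [← neg_add', neg_eq_zero]

/-- A product involution with a fixed space of dimension three. -/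
theorem classify_three (H : h.Nine) {k : V ≃ₗ[F] V} (hk : k ∈ orth Q) (hP : h.Pure k) (hk2 : k * k = 1)
    (hfix : Module.finrank F (fixSp k) = 3) : h.IsHalf k := by
  have h2 := h.h2
  obtain ⟨γ, T, ek, hγ2, hT2, hγ, hT⟩ := invol_form H hk hP hk2
  have hc := finrank_fix_prod (h := h) ek hT2
  rw [hfix] at hc
  have c1 := Submodule.finrank_add_eq_of_isCompl (isCompl_eig h2 hγ2)
  have c2 := Submodule.finrank_add_eq_of_isCompl (isCompl_eig h2 hT2)
  rw [H.dU] at c1
  rw [H.dW] at c2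
  set a := Module.finrank F (LinearMap.ker (γ - 1)) with ha
  set b := Module.finrank F (LinearMap.ker (T - 1)) with hb
  have hcases : (b = 3 ∧ a = 1) ∨ (b = 0 ∧ a = 2) ∨ (a = 3 ∧ b = 1) ∨ (a = 0 ∧ b = 2) := by
    have ha' : Module.finrank F (LinearMap.ker (γ + 1)) = 3 - a := by omega
    have hb' : Module.finrank F (LinearMap.ker (T + 1)) = 3 - b := by omega
    rw [ha', hb'] at hc
    have hb3 : b ≤ 3 := by omega
    have ha3 : a ≤ 3 := by omega
    interval_cases b <;> interval_cases a <;> omega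
  rcases hcases with ⟨e1, e2⟩ | ⟨e1, e2⟩ | ⟨e1, e2⟩ | ⟨e1, e2⟩
  · obtain ⟨e, he, hγe⟩ := sigma_of_fix (h := h) hγ hγ2 e2
    exact Or.inl ⟨e, he, fun u y => by rw [ek, hγe, eq_one_of_ker (T := T) (by rw [← hb, e1, H.dW])]⟩
  · obtain ⟨e, he, hγe⟩ := sigma_of_fix (h := h) (γ := -γ) (by simp [hγ]) (by simp [hγ2]) (by rw [ker_neg_sub_one]; omega)
    refine Or.inl ⟨e, he, fun u y => ?_⟩
    have hTy := eq_one_of_ker (T := -T) (by rw [ker_neg_sub_one, H.dW]; omega) y
    rw [ek, ← hγe]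
    conv_rhs => rw [← hTy]
    simp
  · obtain ⟨f, hf, hTf⟩ := sigma_of_fix (h := h.swap) (γ := T) hT hT2 e2
    exact Or.inr ⟨f, hf, fun u y => by rw [ek, hTf, eq_one_of_ker (T := γ) (by rw [← ha, e1, H.dU])]⟩
  · obtain ⟨f, hf, hTf⟩ := sigma_of_fix (h := h.swap) (γ := -T) (fun x x' => by
      show h.gW ((-T) x) ((-T) x') = h.gW x x'
      simp [hT]) (by simp [hT2]) (by rw [ker_neg_sub_one]; omega)
    refine Or.inr ⟨f, hf, fun u y => ?_⟩
    have hγu := eq_one_of_ker (T := -γ) (by rw [ker_neg_sub_one, H.dU]; omega) u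
    rw [ek, ← hTf]
    conv_rhs => rw [← hγu]
    simp

/-- A product involution with a fixed space of dimension five. -/
theorem classify_five (H : h.Nine) {k : V ≃ₗ[F] V} (hk : k ∈ orth Q) (hP : h.Pure k) (hk2 : k * k = 1)
    (hfix : Module.finrank F (fixSp k) = 5) : ∃ e f, h.fU e e ≠ 0 ∧ h.gW f f ≠ 0 ∧
      ∀ u y, k (h.tp u y) = h.tp (h.sigma e u) (h.swap.sigma f y) := by
  have h2 := h.h2
  obtain ⟨γ, T, ek, hγ2, hT2, hγ, hT⟩ := invol_form H hk hP hk2
  have hc := finrank_fix_prod (h := h) ek hT2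
  rw [hfix] at hc
  have c1 := Submodule.finrank_add_eq_of_isCompl (isCompl_eig h2 hγ2)
  have c2 := Submodule.finrank_add_eq_of_isCompl (isCompl_eig h2 hT2)
  rw [H.dU] at c1
  rw [H.dW] at c2
  set a := Module.finrank F (LinearMap.ker (γ - 1)) with ha
  set b := Module.finrank F (LinearMap.ker (T - 1)) with hb
  have hcases : (a = 1 ∧ b = 1) ∨ (a = 2 ∧ b = 2) := by
    have ha' : Module.finrank F (LinearMap.ker (γ + 1)) = 3 - a := by omega
    have hb' : Module.finrank F (LinearMap.ker (T + 1)) = 3 - b := by omega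
    rw [ha', hb'] at hc
    have hb3 : b ≤ 3 := by omega
    have ha3 : a ≤ 3 := by omega
    interval_cases b <;> interval_cases a <;> omega
  rcases hcases with ⟨e1, e2⟩ | ⟨e1, e2⟩
  · obtain ⟨e, he, hγe⟩ := sigma_of_fix (h := h) hγ hγ2 e1
    obtain ⟨f, hf, hTf⟩ := sigma_of_fix (h := h.swap) (γ := T) hT hT2 e2
    exact ⟨e, f, he, hf, fun u y => by rw [ek, hγe, hTf]⟩
  · obtain ⟨e, he, hγe⟩ := sigma_of_fix (h := h) (γ := -γ) (by simp [hγ]) (by simp [hγ2]) (by rw [ker_neg_sub_one]; omega)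
    obtain ⟨f, hf, hTf⟩ := sigma_of_fix (h := h.swap) (γ := -T) (fun x x' => by
      show h.gW ((-T) x) ((-T) x') = h.gW x x'
      simp [hT]) (by simp [hT2]) (by rw [ker_neg_sub_one]; omega)
    exact ⟨e, f, he, hf, fun u y => by rw [ek, ← hγe, ← hTf]; simp⟩

/-- The image of a half turn under conjugation determines the map. -/
theorem maps_of_sigma_conj {U₀ W₀ : Type*} [AddCommGroup U₀] [Module F U₀] [AddCommGroup W₀] [Module F W₀]
    [FiniteDimensional F U₀] [FiniteDimensional F W₀] [Nontrivial U₀] [Nontrivial W₀] {h₀ : TData Q U₀ W₀}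
    (hG₀ : h₀.Gens M) (H₀ : h₀.Nine) (hN₀ : h₀.NoZ M) (hG : h.Gens M) (H : h.Nine) (hN : h.NoZ M)
    {g : V ≃ₗ[F] V} (hg : g ∈ M) {e : U₀} {e' : U} (he : h₀.fU e e ≠ 0) (he' : h.fU e' e' ≠ 0)
    {s s' : V ≃ₗ[F] V} (hs : s ∈ M) (hs' : s' ∈ M) (es : ∀ u y, s (h₀.tp u y) = h₀.tp (h₀.sigma e u) y)
    (es' : ∀ u y, s' (h.tp u y) = h.tp (h.sigma e' u) y) (hc : g * s * g⁻¹ = s') : MapsPure h₀ h g := by
  obtain ⟨p, hp⟩ := CharP.exists F
  haveI := Fact.mk (CharP.char_is_prime F p)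
  obtain ⟨w, -, hw0, hw⟩ := Nice.exists_iso_in h₀.gW (⊤ : Submodule F W₀) (by rw [finrank_top, H₀.dW])
  obtain ⟨w', b, fr⟩ := h₀.gN.exists_frame3 H₀.dW hw0 hw
  obtain ⟨x, hx, ex⟩ := in_sh hG₀ hw fr.za
  have hxs : Commute x s := LinearEquiv.ext fun T => by
    rw [LinearEquiv.mul_apply, LinearEquiv.mul_apply, ex, ex, map_add, sh_commU hG₀ hs es]
  have hys : Commute (g * x * g⁻¹) s' := by
    rw [← hc]
    show g * x * g⁻¹ * (g * s * g⁻¹) = g * s * g⁻¹ * (g * x * g⁻¹)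
    calc _ = g * (x * s) * g⁻¹ := by group
      _ = g * (s * x) * g⁻¹ := by rw [hxs.eq]
      _ = _ := by group
  have hy : g * x * g⁻¹ ∈ M := mul_mem (mul_mem hg hx) (inv_mem hg)
  have hP := cent_sigma_pure9 hG H hN hy he' hs' es' hys.eq
  have hxp : x ^ p = 1 := LinearEquiv.ext fun T => by
    rw [sh_pow hw fr.za ex, CharP.cast_eq_zero F p, zero_smul, sh_zero]
    simp
  obtain ⟨S, eS⟩ := pelem H.toThreeU he' es' (hG.le hy) hP (p := p) (by rw [conj_pow, hxp, mul_one, mul_inv_cancel]) hys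
  exact maps_of_short_image hG₀ H₀ hN₀ hG H hN hg hw0 hw fr.za fr.aa ex eS

/-- An element commuting with a half turn is a product. -/
theorem cent_half (hG : h.Gens M) (H : h.Nine) (hN : h.NoZ M) (hN' : h.swap.NoZ M) {g k : V ≃ₗ[F] V} (hg : g ∈ M)
    (hk : k ∈ M) (hkI : h.IsHalf k) (hc : g * k = k * g) : h.Pure g := by
  rcases hkI with ⟨e, he, ek⟩ | ⟨f, hf, ek⟩
  · exact cent_sigma_pure9 hG H hN hg he hk ek hc
  · exact pure_of_swap (cent_sigma_pure9 (h := h.swap) hG.swap H.swap hN' hg hf hk (fun y u => ek u y) hc)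

end TData

end CfsgLib.TensorOO
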