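import Cfsg.Agent.Lib.OrthMax.TensorOO.Nine.Basic

/-! A root element inside the centre of the radical gives everything. -/

set_option autoImplicit false
set_option linter.unusedSectionVars false
set_option linter.unusedVariables false
set_option linter.unusedSimpArgs false

namespace CfsgLib.TensorOO

open QuadraticMap CfsgLib.Geometry CfsgLib.OrthMax
open CfsgLib.TensorSp (In)
open LinearMap (BilinForm)

variable {F V U W : Type*} [Field F] [Finite F] [AddCommGroup V] [Module F V] [AddCommGroup U] [Module F U]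
  [AddCommGroup W] [Module F W]
variable [FiniteDimensional F V] [FiniteDimensional F U] [FiniteDimensional F W]
variable {Q : QuadraticForm F V} {M : Subgroup (V ≃ₗ[F] V)}

namespace TData

variable {h : TData Q U W} [Nontrivial U] [Nontrivial W] (hG : h.Gens M)

include hG

/-- An element of the second factor moving one isotropic line to another. -/
theorem zin_move9 (H : h.Nine) {w w'' : W} (hw0 : w ≠ 0) (hw : h.gW w w = 0) (hw''0 : w'' ≠ 0)
    (hw'' : h.gW w'' w'' = 0) {G : Module.End F U} (hX : h.ZIn M w G) : h.ZIn M w'' G := by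
  by_cases hm : w'' ∈ Submodule.span F {w}
  · obtain ⟨c, rfl⟩ := Submodule.mem_span_singleton.1 hm
    intro s
    refine Eq.subst (motive := fun X => In M X) ?_ (hX (c * c * s))
    exact LinearMap.ext fun T => by simp [P_apply, smul_smul]; ring_nf
  have hne : h.gW w w'' ≠ 0 := fun e => hm (H.noPair hw0 hw hw'' e)
  obtain ⟨w', b, fr⟩ := h.gN.exists_frame3 H.dW hw0 hw
  have k' := fr
  have h2 := h.h2
  -- a third isotropic line
  obtain ⟨v, hv, hvw, hvw''⟩ : ∃ v, h.gW v v = 0 ∧ h.gW v w ≠ 0 ∧ h.gW v w'' ≠ 0 := by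
    by_contra hno
    push Not at hno
    have hcand : ∀ t : F, h.gW (w' + t • b + (-(t * t * h.gW b b / 2)) • w) w'' = 0 := fun t => hno _ (by
      simp [fr.iz, fr.iz', fr.zz', k'.z'z h.gN, fr.za, fr.z'a, k'.az h.gN, k'.az' h.gN]
      field_simp
      ring) (by simp [fr.iz, k'.z'z h.gN, k'.az h.gN])
    have e0 := hcand 0
    have e1 := hcand 1
    have e2 := hcand (-1)
    simp only [map_add, map_smul, LinearMap.add_apply, LinearMap.smul_apply, smul_eq_mul] at e0 e1 e2
    refine hne (mul_left_cancel₀ fr.aa ?_)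
    field_simp at e0 e1 e2 ⊢
    refine mul_left_cancel₀ h2 ?_
    linear_combination 2 * e0 - e1 - e2
  set x := (h.gW v w)⁻¹ • w with hx
  set x'' := (h.gW v w'')⁻¹ • w'' with hx''
  have hva : h.gW v (x - x'') = 0 := by
    simp [hx, hx'', inv_mul_cancel₀ hvw, inv_mul_cancel₀ hvw'']
  obtain ⟨k, hk, ek⟩ := act_sh hG hv hva
  have hρ : h.shW v (x - x'') x = x'' := by
    have h2 := h.h2
    simp only [shW_apply, hx, hx'', map_sub, map_smul, LinearMap.sub_apply, LinearMap.smul_apply, smul_eq_mul,
      hw, hw'', h.g_sym w'' w]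
    match_scalars <;> field_simp <;> ring
  intro s
  have h1 := (hX ((h.gW v w)⁻¹ * (h.gW v w)⁻¹ * (h.gW v w'' * h.gW v w'') * s)).conj hk fun T => P_act hG.le hk ek w w _ T
  have e : h.shW v (x - x'') w = h.gW v w • x'' := by
    calc h.shW v (x - x'') w = h.shW v (x - x'') (h.gW v w • x) := by
          congr 1
          rw [hx, smul_smul, mul_inv_cancel₀ hvw, one_smul]
      _ = _ := by rw [map_smul, hρ]
  rw [e, hx''] at h1
  refine Eq.subst (motive := fun X => In M X) ?_ h1
  refine LinearMap.ext fun T => ?_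
  simp only [P_apply, map_smul, LinearMap.smul_apply, smul_smul]
  congr 1
  field_simp

/-- A skew element at one isotropic vector gives the Siegel group. -/
theorem siegel_of_pww9 (H : h.Nine) {w : W} (hw0 : w ≠ 0) (hw : h.gW w w = 0) {G : Module.End F U}
    (hskew : h.adj G = -G) (hG0 : G ≠ 0) (hX : In M (h.P w w G)) : siegelGroup Q ≤ M := by
  have h2 := h.h2
  have hall : ∀ v, v ≠ 0 → h.gW v v = 0 → ∀ x y, h.ZIn M v (h.wedge x y) := fun v hv0 hv x y =>
    zin_move9 hG H hw0 hw hv0 hv (zin_all hG H.toThreeU hw hskew hG0 hX x y)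
  have key : ∀ w, w ≠ 0 → h.gW w w = 0 → ∀ z, h.fU z z ≠ 0 → Full Q M (h.tp z w) := by
    intro w hw0 hw z hz
    have he := h.Q_tp_zero z hw
    set R := rootSpace Q M he with hRdef
    obtain ⟨w', b, fr⟩ := h.gN.exists_frame3 H.dW hw0 hw
    have k' := fr
    obtain ⟨a, a', hza, hza', haa', haa, ha'a', hdec⟩ := exists_orth3 H.toThreeU hz
    have sg : ∀ (z x : U) (w y : W), h.gW w w = 0 → h.gW y y = 0 → (∀ s : F, In M (h.lg w y (s • h.rk z x))) →
        RootIn Q M (h.tp z w) (h.tp x y) := by
      intro z x w y hw hy hin t he' hp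
      obtain ⟨g, hg, eg⟩ := hin (-t)
      convert hg using 1
      refine LinearEquiv.ext fun T => ?_
      rw [eg, siegel_apply, CfsgLib.Geometry.map_smul', h.Q_tp_zero x hy, polar_smul_right', h.polar_tp', h.polar_tp']
      simp only [lg, LinearMap.sub_apply, P_apply, adj_smul, adj_rk, rk_apply, map_smul, LinearMap.smul_apply]
      module
    have hw_mem : ∀ x, h.tp x w ∈ R := fun x => ⟨by rw [h.pol, hw, mul_zero], sg _ _ _ _ hw hw fun s => by
      refine Eq.subst (motive := fun X => In M X) ?_ (hall w hw0 hw z x s)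
      simp [lg, wedge, adj_rk, P_smul, smul_sub, sub_eq_add_neg, P_add, P_neg]⟩
    have hy_mem : ∀ y, h.gW y y = 0 → h.gW w y = 1 → ∀ x, h.fU z x = 0 → h.tp x y ∈ R := by
      intro y hy hwy x hx
      have hy0 : y ≠ 0 := fun e => by rw [e, map_zero] at hwy; exact zero_ne_one hwy
      have m : ∀ x t, h.fU z x = 0 → h.fU z t = 0 → h.fU t t ≠ 0 → h.fU x t = 0 → h.tp x y ∈ R :=
        fun x t hzx hzt htt hxt => ⟨by rw [h.pol, hzx, zero_mul], sg _ _ _ _ hw hy
          (in_lg hw hy hwy (hall w hw0 hw) (hall y hy0 hy) hzx htt hzt hxt)⟩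
      rw [hdec x, hx, zero_div, zero_smul, zero_add, map_add, map_smul, map_smul, LinearMap.add_apply,
        LinearMap.smul_apply, LinearMap.smul_apply]
      exact R.add_mem (R.smul_mem _ (m a a' hza hza' ha'a' haa'))
        (R.smul_mem _ (m a' a hza' hza haa (by rw [h.f_sym, haa'])))
    have hmid : ∀ v, h.gW w v = 0 → h.gW w' v = 0 → ∀ x, h.tp x v ∈ R := by
      intro v hwv hw'v
      set y := w' + v + (-(h.gW v v / 2)) • w with hydef
      have hy : h.gW y y = 0 := by
        simp [hydef, fr.iz, fr.iz', fr.zz', k'.z'z h.gN, hwv, hw'v, h.g_sym v w, h.g_sym v w']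
        field_simp
        ring
      have hwy : h.gW w y = 1 := by simp [hydef, fr.iz, fr.zz', hwv]
      have hperp : ∀ x, h.fU z x = 0 → h.tp x v ∈ R := fun x hx => by
        have := R.sub_mem (R.sub_mem (hy_mem y hy hwy x hx) (hy_mem w' fr.iz' fr.zz' x hx))
          (R.smul_mem (-(h.gW v v / 2)) (hw_mem x))
        refine Eq.subst (motive := fun t => t ∈ R) ?_ this
        rw [hydef, map_add, map_add, map_smul]
        abel
      have hz' : h.tp z v ∈ R := by
        set r := (h.fU z z)⁻¹ • z with hr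
        have har : h.fU a r = 0 := by rw [hr, map_smul, h.f_sym a z, hza, smul_zero]
        have ha'z : h.fU a' z = 0 := by rw [h.f_sym, hza']
        obtain ⟨g, hg, eg⟩ := in_lg (x := a) (y := r) (t := a') hw fr.iz' fr.zz' (hall w hw0 hw)
          (hall w' (fun e => by have := fr.zz'; rw [e, map_zero] at this; exact zero_ne_one this) fr.iz') har ha'a'
          haa' (by rw [hr, map_smul, LinearMap.smul_apply, hza', smul_zero]) 1
        have haz : h.fU a z = 0 := by rw [h.f_sym, hza]
        have hw'w := k'.z'z h.gN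
        set x := h.fU a a • z + h.fU z z • a with hx
        have hy0 : y ≠ 0 := fun e => by rw [e, map_zero] at hwy; exact zero_ne_one hwy
        have hz0x : h.fU (z - a) x = 0 := by simp [hx, hza, haz]; ring
        have hroot := sg (z - a) x w y hw hy (in_lg hw hy hwy (hall w hw0 hw) (hall y hy0 hy) hz0x ha'a'
          (by simp [hza', haa']) (by simp [hx, hza', haa']))
        have hg0 : g (h.tp (z - a) w) = h.tp z w := by
          rw [eg]
          simp [lg, P_apply, rk_apply, adj_rk, hw, hw'w, hr, hza, haz, hz]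
        have hgT : g (h.tp x y) = h.tp (h.fU z z • a) w' + h.tp x v +
            (-(h.gW v v / 2)) • h.tp (x + h.fU r x • a) w := by
          rw [eg]
          simp [hydef, lg, P_apply, rk_apply, adj_rk, hw, hw'w, fr.iz', fr.zz', hwv, hw'v, hr, hx, hza, haz, hz]
          match_scalars <;> field_simp <;> ring
        have hpol : polar Q (h.tp (z - a) w) (h.tp x y) = 0 := by rw [h.pol, hz0x, zero_mul]
        have hin : g (h.tp x y) ∈ R := by
          refine ⟨?_, fun t => ?_⟩
          · have := orth_polar (hG.le hg) (h.tp (z - a) w) (h.tp x y)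
            rwa [hg0, hpol] at this
          have := (hroot t).conj hg (hG.le hg)
          rwa [hg0, map_smul] at this
        rw [hgT] at hin
        have h3 := R.sub_mem (R.sub_mem hin (R.smul_mem (-(h.gW v v / 2)) (hw_mem (x + h.fU r x • a))))
          (hy_mem w' fr.iz' fr.zz' (h.fU z z • a) (by rw [map_smul, hza, smul_zero]))
        rw [add_sub_cancel_right, add_sub_cancel_left] at h3
        have h4 := R.sub_mem h3 (R.smul_mem (h.fU z z) (hperp a hza))
        rw [hx, map_add, map_smul, map_smul, LinearMap.add_apply, LinearMap.smul_apply, LinearMap.smul_apply,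
          add_sub_cancel_right] at h4
        exact (Submodule.smul_mem_iff _ haa).1 h4
      intro x
      rw [hdec x, map_add, map_add, map_smul, map_smul, map_smul, LinearMap.add_apply, LinearMap.add_apply,
        LinearMap.smul_apply, LinearMap.smul_apply, LinearMap.smul_apply]
      exact R.add_mem (R.add_mem (R.smul_mem _ hz') (R.smul_mem _ (hperp a hza))) (R.smul_mem _ (hperp a' hza'))
    intro T he' hT
    suffices hTR : T ∈ R from hTR.2.one he' hT
    have hker : T - h.tp (h.c w T) w' ∈ R := by
      refine (Submodule.span_le.2 ?_) (h.mem_span_perp hw0 (by rw [map_sub, h.c_tp, fr.zz', one_smul, sub_self]))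
      rintro _ ⟨u, x, hx, rfl⟩
      rw [h.g_sym] at hx
      show h.tp u x ∈ R
      rw [fr.decomp h.gN H.dW x, hx, zero_smul, add_zero, map_add, map_smul, map_smul]
      exact R.add_mem (R.smul_mem _ (hw_mem u)) (R.smul_mem _ (hmid b fr.za fr.z'a u))
    have := R.add_mem hker (hy_mem w' fr.iz' fr.zz' (h.c w T) (by rw [h.pol_c]; exact hT))
    rwa [sub_add_cancel] at this
  obtain ⟨w', hw', hww'⟩ := h.gN.exists_partner hw0 hw
  have hw'0 : w' ≠ 0 := fun e => by rw [e, map_zero] at hww'; exact zero_ne_one hww'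
  obtain ⟨z, hz⟩ := h.fN.exists_aniso
  have h3 := (key w' hw'0 hw' z hz).smul (h.Q_tp_zero z hw') (h.fU z z)⁻¹
  exact siegelGroup_le_of_full h.qnd (h.Q_tp_zero z hw)
    (by rw [CfsgLib.Geometry.map_smul', h.Q_tp_zero z hw', mul_zero])
    (by rw [polar_smul_right', h.pol, hww', mul_one, inv_mul_cancel₀ hz]) (key w hw0 hw z hz) h3

end TData

end CfsgLib.TensorOO
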