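import Cfsg.Agent.Lib.OrthMax.TensorOO.Nine.Diag

/-! Every member keeps or exchanges the two three-dimensional factors. -/

set_option autoImplicit false
set_option linter.unusedSectionVars false
set_option linter.unusedVariables false
set_option linter.unusedSimpArgs false

namespace CfsgLib.TensorOO

open QuadraticMap CfsgLib.Geometry CfsgLib.OrthMax
open LinearMap (BilinForm)

variable {F V U W : Type*} [Field F] [Finite F] [AddCommGroup V] [Module F V] [AddCommGroup U] [Module F U]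
  [AddCommGroup W] [Module F W]
variable [FiniteDimensional F V] [FiniteDimensional F U] [FiniteDimensional F W]
variable {Q : QuadraticForm F V} {M : Subgroup (V ≃ₗ[F] V)}

namespace TData

/-- The standing hypotheses on a group preserving the two factors. -/
structure Ctx (h : TData Q U W) (M : Subgroup (V ≃ₗ[F] V)) : Prop where
  hG : h.Gens M
  H : h.Nine
  hN : h.NoZ M
  hN' : h.swap.NoZ M
  hP : ∀ k ∈ siegelGroup Q, h.Pure k → k ∈ M

/-- Keeping or exchanging the factors. -/
def PS (h : TData Q U W) (g : V ≃ₗ[F] V) : Prop := h.Pure g ∨ MapsPure h h.swap g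

variable {h : TData Q U W} [Nontrivial U] [Nontrivial W]

/-- Orthogonal half turns commute. -/
theorem sigma_perp_mul (H : h.ThreeU) {a b : U} (ha : h.fU a a ≠ 0) (hb : h.fU b b ≠ 0) (hab : h.fU a b = 0) :
    (∀ u, h.sigma a (h.sigma b u) = h.sigma b (h.sigma a u)) ∧
      ∃ c, h.fU c c ≠ 0 ∧ h.fU a c = 0 ∧ ∀ u, h.sigma a (h.sigma b u) = h.sigma c u := by
  have hc : ∀ u, h.sigma a (h.sigma b u) = h.sigma b (h.sigma a u) := fun u => by
    simp only [sigma_apply, map_sub, map_smul, hab, show h.fU b a = 0 by rw [h.f_sym]; exact hab, smul_eq_mul,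
      mul_zero, zero_sub]
    match_scalars <;> ring
  refine ⟨hc, (sigma_comm H ha hb hc).resolve_left fun e => ?_⟩
  have e1 := e b
  rw [h.sigma_self hb, h.sigma_perp hab] at e1
  have : (2 : F) • b = 0 := by rw [two_smul]; nth_rewrite 1 [e1]; exact neg_add_cancel b
  exact hb (by rw [(smul_eq_zero.1 this).resolve_left h.h2, map_zero])

variable (C : h.Ctx M)

include C

/-- The image of a half turn decides the map. -/
theorem toPS {g : V ≃ₗ[F] V} (hg : g ∈ M) {e : U} (he : h.fU e e ≠ 0) {s : V ≃ₗ[F] V} (hs : s ∈ M)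
    (es : ∀ u y, s (h.tp u y) = h.tp (h.sigma e u) y) (hj : h.PS (g * s * g⁻¹)) : h.PS g := by
  obtain ⟨hG, H, hN, hN', hP⟩ := C
  have hjM : g * s * g⁻¹ ∈ M := mul_mem (mul_mem hg hs) (inv_mem hg)
  have hs2 : s * s = 1 := h.equiv_ext fun u y => by rw [LinearEquiv.mul_apply, es, es, h.sigma_sq he]; rfl
  rcases hj with hj | hj
  · have hj2 : g * s * g⁻¹ * (g * s * g⁻¹) = 1 := by rw [conj_mul, hs2, mul_one, mul_inv_cancel]
    rcases classify_three H (hG.le hjM) hj hj2 (by rw [finrank_fixSp_conj, fix_sigma9 H he es]) with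
      ⟨e', he', ej⟩ | ⟨f, hf, ej⟩
    · exact Or.inl (maps_of_sigma_conj hG H hN hG H hN hg he he' hs hjM es ej rfl)
    · exact Or.inr (maps_of_sigma_conj (h := h.swap) hG H hN hG.swap H.swap hN' hg he hf hs hjM es
        (fun y u => ej u y) rfl)
  · exact (not_conj_swap hG H hN hP he hs hg es rfl hj).elim

/-- A half turn and an involution with the same fixed dimension. -/
theorem pair_sigma {v : U} (hv : h.fU v v ≠ 0) {i j : V ≃ₗ[F] V} (hi : i ∈ M)
    (ei : ∀ u y, i (h.tp u y) = h.tp (h.sigma v u) y) (hj : j ∈ M) (hj2 : j * j = 1)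
    (hfj : Module.finrank F (fixSp j) = 3) :
    (∃ q ∈ Subgroup.closure ({i, j} : Set (V ≃ₗ[F] V)), q * i * q⁻¹ = j) ∨
      ∃ k ∈ Subgroup.closure ({i, j} : Set (V ≃ₗ[F] V)), j * k = k * j ∧ Module.finrank F (fixSp (j * k)) = 3 ∧
        k ∈ M ∧ (h.IsHalf k ∨ ∃ f, h.gW f f ≠ 0 ∧
          ∀ u y, k (h.tp u y) = h.tp (h.sigma v u) (h.swap.sigma f y)) := by
  obtain ⟨hG, H, hN, hN', hP⟩ := C
  haveI := finite_equiv (F := F) (V := V)
  have hi2 : i * i = 1 := h.equiv_ext fun u y => by rw [LinearEquiv.mul_apply, ei, ei, h.sigma_sq hv]; rfl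
  have hfi := fix_sigma9 H hv ei
  refine (invol_pair' i j hi2 hj2).imp_right fun ⟨k, hk, hk1, hk2, hki, hkj, hcase⟩ => ?_
  have hkM : k ∈ M := Subgroup.closure_le M |>.2 (by rintro _ (rfl | rfl) <;> assumption) hk
  have hf : Module.finrank F (fixSp (i * k)) = 3 ∧ Module.finrank F (fixSp (j * k)) = 3 := by
    rcases hcase with ⟨⟨q, -, e1⟩, q', -, e2⟩ | ⟨⟨q, -, e1⟩, q', -, e2⟩ <;> rw [← e1, ← e2] <;>
      simp [finrank_fixSp_conj, hfi, hfj]
  refine ⟨k, hk, hkj.symm, hf.2, hkM, ?_⟩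
  have hPk := cent_sigma_pure9 hG H hN hkM hv hi ei hki
  have hikP : h.Pure (i * k) := by
    obtain ⟨lam, S, ek⟩ := hPk
    exact ⟨h.sigma v * lam, S, fun u y => by rw [LinearEquiv.mul_apply, ek, ei]; rfl⟩
  have hik2 : i * k * (i * k) = 1 := by
    rw [show i * k * (i * k) = i * (k * i) * k by group, hki, show i * (i * k) * k = i * i * (k * k) by group, hi2,
      hk2, one_mul]
  have hk' : k = i * (i * k) := by rw [← mul_assoc, hi2, one_mul]
  rcases classify_three H (hG.le (mul_mem hi hkM)) hikP hik2 hf.1 with ⟨c, hc, eik⟩ | ⟨f, hf', eik⟩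
  · left
    have ek : ∀ u y, k (h.tp u y) = h.tp (h.sigma v (h.sigma c u)) y := fun u y => by
      rw [hk', LinearEquiv.mul_apply, eik, ei]
    have hcm : ∀ u, h.sigma v (h.sigma c u) = h.sigma c (h.sigma v u) := fun u => by
      obtain ⟨y, hy⟩ := exists_ne (0 : W)
      refine h.tp_injective hy (?_ : h.tp _ y = h.tp _ y)
      rw [← ek, ← eik, ← ei, ← LinearEquiv.mul_apply, mul_assoc, hki, ← mul_assoc, hi2, one_mul]
    rcases sigma_comm H.toThreeU hv hc hcm with e | ⟨c', hc', -, e⟩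
    · exact absurd (h.equiv_ext fun u y => by rw [ek, e, h.sigma_sq hv]; rfl) hk1
    · exact Or.inl ⟨c', hc', fun u y => by rw [ek, e]⟩
  · exact Or.inr ⟨f, hf', fun u y => by rw [hk', LinearEquiv.mul_apply, eik, ei]⟩

omit C in
/-- Elements commuting with two generators commute with what they generate. -/
theorem commute_closure {G : Type*} [Group G] {i j t x : G} (hi : t * i = i * t) (hj : t * j = j * t)
    (hx : x ∈ Subgroup.closure ({i, j} : Set G)) : t * x = x * t := by
  have : Subgroup.closure ({i, j} : Set G) ≤ Subgroup.centralizer {t} := (Subgroup.closure_le _).2 (by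
    rintro _ (rfl | rfl) <;> simpa [Subgroup.mem_centralizer_iff] )
  exact Subgroup.mem_centralizer_iff.1 (this hx) t rfl

/-- The centraliser of the product of half turns of both factors. -/
theorem cent_two {v a : U} {f : W} (hv : h.fU v v ≠ 0) (ha : h.fU a a ≠ 0) (hf : h.gW f f ≠ 0) (hva : h.fU v a = 0)
    {iv ia iF : V ≃ₗ[F] V} (hiv : iv ∈ M) (hia : ia ∈ M) (hiF : iF ∈ M)
    (ev : ∀ u y, iv (h.tp u y) = h.tp (h.sigma v u) y) (ea : ∀ u y, ia (h.tp u y) = h.tp (h.sigma a u) y)
    (ef : ∀ u y, iF (h.tp u y) = h.tp u (h.swap.sigma f y))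
    {g : V ≃ₗ[F] V} (hg : g ∈ M) (hc : g * (iv * iF) = iv * iF * g) : h.PS g := by
  have C' := C
  obtain ⟨hG, H, hN, hN', hP⟩ := C'
  obtain ⟨hcm, c, hcc, -, hvac⟩ := sigma_perp_mul H.toThreeU hv ha hva
  set t := iv * iF with ht
  have et : ∀ u y, t (h.tp u y) = h.tp (h.sigma v u) (h.swap.sigma f y) := fun u y => by
    rw [ht, LinearEquiv.mul_apply, ef, ev]
  clear_value t
  have hta : t * ia = ia * t := h.equiv_ext fun u y => by
    rw [LinearEquiv.mul_apply, LinearEquiv.mul_apply, et, ea, et, ea, hcm]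
  have htv : t * iv = iv * t := h.equiv_ext fun u y => by
    rw [LinearEquiv.mul_apply, LinearEquiv.mul_apply, et, ev, et, ev]
  have htM : t ∈ M := ht ▸ mul_mem hiv hiF
  have hfa : Module.finrank F (fixSp (ia * t)) = 5 := fix_sigma_sigma H hcc hf fun u y => by
    rw [LinearEquiv.mul_apply, et, ea, ← hcm, hvac]
  set j := g * ia * g⁻¹ with hj
  have hia2 : ia * ia = 1 := h.equiv_ext fun u y => by rw [LinearEquiv.mul_apply, ea, ea, h.sigma_sq ha]; rfl
  have hjM : j ∈ M := mul_mem (mul_mem hg hia) (inv_mem hg)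
  have hj2 : j * j = 1 := by rw [hj, conj_mul, hia2, mul_one, mul_inv_cancel]
  have hjt : t * j = j * t := by
    rw [hj]
    calc t * (g * ia * g⁻¹) = t * g * ia * g⁻¹ := by group
      _ = g * t * ia * g⁻¹ := by rw [← hc]
      _ = g * (t * ia) * g⁻¹ := by group
      _ = g * (ia * t) * g⁻¹ := by rw [hta]
      _ = g * ia * (t * g⁻¹) := by group
      _ = g * ia * (g⁻¹ * t) := by rw [((show Commute g t from hc).inv_left).eq]
      _ = _ := by group
  have hfjt : Module.finrank F (fixSp (j * t)) = 5 := by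
    rw [show j * t = g * (ia * t) * g⁻¹ by
      rw [hj]
      calc g * ia * g⁻¹ * t = g * ia * (g⁻¹ * t) := by group
        _ = g * ia * (t * g⁻¹) := by rw [((show Commute g t from hc).inv_left).eq]
        _ = _ := by group, finrank_fixSp_conj, hfa]
  have hfj : Module.finrank F (fixSp j) = 3 := by rw [hj, finrank_fixSp_conj, fix_sigma9 H ha ea]
  refine toPS C hg ha hia ea (Or.inl ?_)
  rcases pair_sigma C hv hiv ev hjM hj2 hfj with ⟨q, hq, hqe⟩ | ⟨k, hk, hjk, hfjk, hkM, hhalf | ⟨d, hd, ek⟩⟩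
  · exfalso
    have e1 : j * t = q * (iv * t) * q⁻¹ := by
      rw [← hqe]
      have := commute_closure htv hjt hq
      calc q * iv * q⁻¹ * t = q * iv * (q⁻¹ * t) := by group
        _ = q * iv * (t * q⁻¹) := by rw [((show Commute q t from this.symm).inv_left).eq]
        _ = _ := by group
    have e2 : Module.finrank F (fixSp (iv * t)) = 3 :=
      fix_sigma9 (h := h.swap) H.swap (e := f) hf fun y u => by
        show (iv * t) (h.tp u y) = h.tp u (h.swap.sigma f y)
        rw [LinearEquiv.mul_apply, et, ev, h.sigma_sq hv]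
    rw [e1, finrank_fixSp_conj, e2] at hfjt
    omega
  · exact cent_half hG H hN hN' hjM hkM hhalf hjk
  · have htk := commute_closure htv hjt hk
    have hcd : ∀ y, h.swap.sigma f (h.swap.sigma d y) = h.swap.sigma d (h.swap.sigma f y) := fun y => by
      obtain ⟨u, hu⟩ := exists_ne (0 : U)
      refine h.swap.tp_injective hu (?_ : h.tp u _ = h.tp u _)
      have := LinearEquiv.congr_fun htk (h.tp u y)
      rwa [LinearEquiv.mul_apply, LinearEquiv.mul_apply, ek, et, et, ek, h.sigma_sq hv] at this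
    rcases sigma_comm (h := h.swap) H.swap.toThreeU hf hd hcd with e | ⟨d', hd', -, e⟩
    · exfalso
      have : k = t := h.equiv_ext fun u y => by rw [ek, et, e]
      rw [this, hfjt] at hfjk
      omega
    · refine cent_half hG H hN hN' hjM (mul_mem htM hkM) (Or.inr ⟨d', hd', fun u y => ?_⟩) ?_
      · rw [LinearEquiv.mul_apply, ek, et, h.sigma_sq hv, e]
      · rw [← mul_assoc, ← hjt, mul_assoc, hjk, mul_assoc]

/-- Every member keeps or exchanges the factors. -/
theorem all_PS {g : V ≃ₗ[F] V} (hg : g ∈ M) : h.PS g := by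
  have C' := C
  obtain ⟨hG, H, hN, hN', hP⟩ := C'
  haveI := finite_equiv (F := F) (V := V)
  obtain ⟨v, a, a₃, μ, hμ, e1, e2, e3, e12, e13, e23⟩ := exists_equal_basis H
  obtain ⟨f, f₂, f₃, ν, hν, f1, f22, f33, f12, f13, f23⟩ := exists_equal_basis (h := h.swap) H.swap
  have hv : h.fU v v ≠ 0 := by rw [e1]; exact hμ
  have ha : h.fU a a ≠ 0 := by rw [e2]; exact hμ
  have ha₃ : h.fU a₃ a₃ ≠ 0 := by rw [e3]; exact hμ
  have hf : h.gW f f ≠ 0 := fun e => hν (f1.symm.trans e)
  have e21 : h.fU a v = 0 := by rw [h.f_sym]; exact e12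
  obtain ⟨iv, hiv, ev⟩ := sigma_mem9 H hG hv ha ha₃ e12 e13 e23 ⟨μ, by rw [e2, e3]⟩
  obtain ⟨ia, hia, ea⟩ := sigma_mem9 H hG ha hv ha₃ e21 e23 e13 ⟨μ, by rw [e1, e3]⟩
  obtain ⟨iF, hiF, ef⟩ := sigma_mem9 (h := h.swap) H.swap hG.swap (e := f) (a := f₂) (a' := f₃)
    (by rw [f1]; exact hν) (by rw [f22]; exact hν) (by rw [f33]; exact hν) f12 f13 f23 ⟨ν, by rw [f22, f33]⟩
  have ef' : ∀ u y, iF (h.tp u y) = h.tp u (h.swap.sigma f y) := fun u y => ef y u
  refine toPS C hg hv hiv ev ?_
  set j := g * iv * g⁻¹ with hj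
  set t := iv * iF with ht
  have et : ∀ u y, t (h.tp u y) = h.tp (h.sigma v u) (h.swap.sigma f y) := fun u y => by
    rw [ht, LinearEquiv.mul_apply, ef', ev]
  have htM : t ∈ M := mul_mem hiv hiF
  have hiv2 : iv * iv = 1 := h.equiv_ext fun u y => by rw [LinearEquiv.mul_apply, ev, ev, h.sigma_sq hv]; rfl
  have ht2 : t * t = 1 := h.equiv_ext fun u y => by
    rw [LinearEquiv.mul_apply, et, et, h.sigma_sq hv, h.swap.sigma_sq hf]; rfl
  have hjM : j ∈ M := mul_mem (mul_mem hg hiv) (inv_mem hg)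
  have hj2 : j * j = 1 := by rw [hj, conj_mul, hiv2, mul_one, mul_inv_cancel]
  have hfj : Module.finrank F (fixSp j) = 3 := by rw [hj, finrank_fixSp_conj, fix_sigma9 H hv ev]
  have hft := fix_sigma_sigma H hv hf et
  rcases invol_pair' t j ht2 hj2 with ⟨q, -, hq⟩ | ⟨k, hk, hk1, hk2, hkt, hkj, hcase⟩
  · rw [← hq, finrank_fixSp_conj, hft] at hfj
    omega
  have hle : Subgroup.closure ({t, j} : Set (V ≃ₗ[F] V)) ≤ M :=
    (Subgroup.closure_le M).2 (by rintro _ (rfl | rfl) <;> assumption)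
  have hkM := hle hk
  have htkM : t * k ∈ M := mul_mem htM hkM
  have htk2 : t * k * (t * k) = 1 := by
    rw [show t * k * (t * k) = t * (k * t) * k by group, hkt, show t * (t * k) * k = t * t * (k * k) by group,
      ht2, hk2, one_mul]
  have hk' : k = t * (t * k) := by rw [← mul_assoc, ht2, one_mul]
  have half : ∀ {x : V ≃ₗ[F] V}, x ∈ M → h.IsHalf x → j * x = x * j → h.PS j := fun hx hxh hjx =>
    Or.inl (cent_half hG H hN hN' hjM hx hxh hjx)
  rcases cent_two C hv ha hf e12 hiv hia hiF ev ea ef' hkM hkt with hPk | hSk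
  swap
  · exfalso
    obtain ⟨lam, S, ek⟩ := hSk
    have ek' : ∀ u y, k (h.tp u y) = h.tp (S y) (lam u) := ek
    have hsw : MapsPure h h.swap (t * k) := ⟨h.swap.sigma f ∘ₗ lam, h.sigma v ∘ₗ S, fun u y => by
      show (t * k) (h.tp u y) = h.tp (h.sigma v (S y)) (h.swap.sigma f (lam u))
      rw [LinearEquiv.mul_apply, ek', et]⟩
    rcases hcase with ⟨⟨q, -, hq⟩, -⟩ | ⟨⟨q, hqc, hq⟩, -⟩
    · exact fix_swap_ne_five H (hG.le htkM) hsw htk2 (by rw [← hq, finrank_fixSp_conj, hft])
    · refine not_conj_swap hG H hN hP hv hiv (mul_mem (hle hqc) hg) ev (w := t * k) ?_ hsw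
      rw [← hq, hj]; group
  have htkP : h.Pure (t * k) := by
    obtain ⟨lam, S, ek⟩ := hPk
    exact ⟨h.sigma v * lam, h.swap.sigma f * S, fun u y => by rw [LinearEquiv.mul_apply, ek, et]; rfl⟩
  rcases hcase with ⟨⟨q, -, hq⟩, q', -, hq'⟩ | ⟨⟨q, -, hq⟩, -⟩
  · have hfjk : Module.finrank F (fixSp (j * k)) = 3 := by rw [← hq', finrank_fixSp_conj, hfj]
    obtain ⟨c, d, hc, hd, etk⟩ := classify_five H (hG.le htkM) htkP htk2 (by rw [← hq, finrank_fixSp_conj, hft])
    have ek : ∀ u y, k (h.tp u y) = h.tp (h.sigma v (h.sigma c u)) (h.swap.sigma f (h.swap.sigma d y)) :=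
      fun u y => by rw [hk', LinearEquiv.mul_apply, etk, et]
    have ek2 : ∀ u y, k (h.tp u y) = h.tp (h.sigma c (h.sigma v u)) (h.swap.sigma d (h.swap.sigma f y)) :=
      fun u y => by
        rw [show k = t * k * t by rw [mul_assoc, hkt, ← mul_assoc, ht2, one_mul], LinearEquiv.mul_apply, et, etk]
    obtain ⟨hW, hU⟩ := sigma_comm_of_tensor H.toThreeU hv (b := c) (B := h.swap.sigma f * h.swap.sigma d)
      (B' := h.swap.sigma d * h.swap.sigma f) (fun y hy => by
        have := congrArg (h.swap.sigma f) (congrArg (h.swap.sigma d) hy)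
        rwa [Module.End.mul_apply, h.swap.sigma_sq hd, h.swap.sigma_sq hf, map_zero, map_zero] at this)
      fun u y => (ek u y).symm.trans (ek2 u y)
    rcases sigma_comm H.toThreeU hv hc hU with eU | ⟨c', hc', hvc', eU⟩ <;>
      rcases sigma_comm (h := h.swap) H.swap.toThreeU hf hd hW with eW | ⟨d', hd', hfd', eW⟩
    · exact absurd (h.equiv_ext fun u y => by rw [ek, eU, eW, h.sigma_sq hv, h.swap.sigma_sq hf]; rfl) hk1
    · exact half hkM (Or.inr ⟨d', hd', fun u y => by rw [ek, eU, h.sigma_sq hv, eW]⟩) hkj.symm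
    · exact half hkM (Or.inl ⟨c', hc', fun u y => by rw [ek, eW, h.swap.sigma_sq hf, eU]⟩) hkj.symm
    · have ek3 : ∀ u y, k (h.tp u y) = h.tp (h.sigma c' u) (h.swap.sigma d' y) := fun u y => by rw [ek, eU, eW]
      obtain ⟨hcm, c'', hc'', -, e''⟩ := sigma_perp_mul H.toThreeU hv hc' hvc'
      have hkiv : k * iv = iv * k := h.equiv_ext fun u y => by
        rw [LinearEquiv.mul_apply, LinearEquiv.mul_apply, ek3, ev, ek3, ev, hcm]
      rcases pair_sigma C hv hiv ev hjM hj2 hfj with ⟨r, hr, hre⟩ | ⟨x, hx, hjx, -, hxM, hxh | ⟨b, hb, ex⟩⟩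
      · exfalso
        have e1 : j * k = r * (iv * k) * r⁻¹ := by
          rw [← hre]
          have := commute_closure hkiv hkj hr
          calc r * iv * r⁻¹ * k = r * iv * (r⁻¹ * k) := by group
            _ = r * iv * (k * r⁻¹) := by rw [((show Commute r k from this.symm).inv_left).eq]
            _ = _ := by group
        have e2 : Module.finrank F (fixSp (iv * k)) = 5 := fix_sigma_sigma H hc'' hd' fun u y => by
          rw [LinearEquiv.mul_apply, ek3, ev, e'']
        rw [e1, finrank_fixSp_conj, e2] at hfjk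
        omega
      · exact half hxM hxh hjx
      · have ex' : ∀ u y, (iv * x) (h.tp u y) = h.tp u (h.swap.sigma b y) := fun u y => by
          rw [LinearEquiv.mul_apply, ex, ev, h.sigma_sq hv]
        refine cent_two C hv ha hb e12 hiv hia (mul_mem hiv hxM) ev ea ex' hjM ?_
        rw [← mul_assoc iv iv x, hiv2, one_mul, hjx]
  · have hf3 : Module.finrank F (fixSp (t * k)) = 3 := by rw [← hq, finrank_fixSp_conj, hfj]
    rcases classify_three H (hG.le htkM) htkP htk2 hf3 with ⟨c, hc, etk⟩ | ⟨d, hd, etk⟩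
    · have ek : ∀ u y, k (h.tp u y) = h.tp (h.sigma v (h.sigma c u)) (h.swap.sigma f y) :=
        fun u y => by rw [hk', LinearEquiv.mul_apply, etk, et]
      have ek2 : ∀ u y, k (h.tp u y) = h.tp (h.sigma c (h.sigma v u)) (h.swap.sigma f y) := fun u y => by
        rw [show k = t * k * t by rw [mul_assoc, hkt, ← mul_assoc, ht2, one_mul], LinearEquiv.mul_apply, et, etk]
      obtain ⟨-, hU⟩ := sigma_comm_of_tensor H.toThreeU hv (b := c) (B := h.swap.sigma f) (B' := h.swap.sigma f)
        (fun y hy => by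
          have := congrArg (h.swap.sigma f) hy
          rwa [h.swap.sigma_sq hf, map_zero] at this)
        fun u y => (ek u y).symm.trans (ek2 u y)
      rcases sigma_comm H.toThreeU hv hc hU with eU | ⟨c', hc', hvc', eU⟩
      · exact half hkM (Or.inr ⟨f, hf, fun u y => by rw [ek, eU, h.sigma_sq hv]⟩) hkj.symm
      · have hkF : ∀ u y, (k * iF) (h.tp u y) = h.tp (h.sigma c' u) y := fun u y => by
          rw [LinearEquiv.mul_apply, ef', ek, eU, h.swap.sigma_sq hf]
        refine cent_two C hc' hv hf (by rw [h.f_sym]; exact hvc') (mul_mem hkM hiF) hiv hiF hkF ev ef' hjM ?_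
        have : k * iF * iF = k := h.equiv_ext fun u y => by
          rw [LinearEquiv.mul_apply, ef', hkF, ek, eU]
        rw [this, hkj]
    · have ek : ∀ u y, k (h.tp u y) = h.tp (h.sigma v u) (h.swap.sigma f (h.swap.sigma d y)) :=
        fun u y => by rw [hk', LinearEquiv.mul_apply, etk, et]
      have ek2 : ∀ u y, k (h.tp u y) = h.tp (h.sigma v u) (h.swap.sigma d (h.swap.sigma f y)) := fun u y => by
        rw [show k = t * k * t by rw [mul_assoc, hkt, ← mul_assoc, ht2, one_mul], LinearEquiv.mul_apply, et, etk]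
      obtain ⟨-, hW⟩ := sigma_comm_of_tensor (h := h.swap) H.swap.toThreeU hf (b := d) (B := h.sigma v)
        (B' := h.sigma v) (fun u hu => by
          have := congrArg (h.sigma v) hu
          rwa [h.sigma_sq hv, map_zero] at this)
        fun y u => (ek u y).symm.trans (ek2 u y)
      rcases sigma_comm (h := h.swap) H.swap.toThreeU hf hd hW with eW | ⟨d', hd', hfd', eW⟩
      · exact half hkM (Or.inl ⟨v, hv, fun u y => by rw [ek, eW, h.swap.sigma_sq hf]⟩) hkj.symm
      · have hkV : ∀ u y, (iv * k) (h.tp u y) = h.tp u (h.swap.sigma d' y) := fun u y => by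
          rw [LinearEquiv.mul_apply, ek, ev, h.sigma_sq hv, eW]
        refine cent_two C hv ha hd' e12 hiv hia (mul_mem hiv hkM) ev ea hkV hjM ?_
        rw [← mul_assoc iv iv k, hiv2, one_mul, hkj]

omit C in
/-- Everything, or only maps keeping or exchanging the factors. -/
theorem dichotomy_nine (hG : h.Gens M) (H : h.Nine) (hP : ∀ k ∈ siegelGroup Q, h.Pure k → k ∈ M) :
    siegelGroup Q ≤ M ∨ ∀ g ∈ M, h.PS g := by
  rcases siegel_or_noZ9 hG H with e | hN
  · exact Or.inl e
  rcases siegel_or_noZ9 (h := h.swap) hG.swap H.swap with e | hN'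
  · exact Or.inl e
  exact Or.inr fun g hg => all_PS ⟨hG, H, hN, hN', hP⟩ hg

end TData

end CfsgLib.TensorOO
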