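import Cfsg.Agent.Lib.OrthMax.TensorOO.Nine.LongRoot
import Cfsg.Agent.Lib.OrthMax.TensorOO.Four.Rad

/-! The radical at an isotropic vector of a three-dimensional factor. -/

set_option autoImplicit false
set_option linter.unusedSectionVars false
set_option linter.unusedVariables false
set_option linter.unusedSimpArgs false

namespace CfsgLib.TensorOO

open QuadraticMap CfsgLib.Geometry CfsgLib.OrthMax
open CfsgLib.TensorSp (In)
open LinearMap (BilinForm)

variable {F V U W : Type*} [Field F] [Finite F] [AddCommGroup V] [Module F V] [AddCommGroup U] [Module F U]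
  [AddCommGroup W] [Module F W]
variable [FiniteDimensional F V] [FiniteDimensional F U] [FiniteDimensional F W]
variable {Q : QuadraticForm F V} {M : Subgroup (V ≃ₗ[F] V)}

namespace TData

variable {h : TData Q U W} [Nontrivial U] [Nontrivial W] (hG : h.Gens M) (H : h.Nine)

include hG H

theorem siegel_or_noZ9 : siegelGroup Q ≤ M ∨ h.NoZ M :=
  or_iff_not_imp_left.2 fun hns w G hw0 hw hskew hX => by_contra fun hG0 =>
    hns (siegel_of_pww9 hG H hw0 hw hskew hG0 hX)

omit hG in
theorem expand9 {w w' b : W} (fr : Frame3 h.gW w w' b) (T : V) :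
    T = h.tp (h.c w' T) w + h.tp (h.c w T) w' + (h.gW b b)⁻¹ • h.tp (h.c b T) b := by
  refine sub_eq_zero.1 (h.eq_zero_of_c fun x => ?_)
  conv_lhs => rw [fr.decomp h.gN H.dW x]
  simp only [map_add, map_sub, map_smul, LinearMap.add_apply, LinearMap.smul_apply, c_tp, fr.iz, fr.iz', fr.zz', fr.za,
    fr.z'a, fr.z'z h.gN, fr.az h.gN, fr.az' h.gN]
  have := fr.aa
  match_scalars <;> field_simp <;> ring

/-- Radical elements are short elements of the second factor. -/
theorem Rad.eq_sh9 (hN : h.NoZ M) {w : W} (hw0 : w ≠ 0) (hw : h.gW w w = 0) {X : Module.End F V}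
    (hX : h.Rad M w X) : ∃ b, h.gW w b = 0 ∧ X = h.sh w b 1 := by
  have h2 := h.h2
  obtain ⟨w', b, fr⟩ := h.gN.exists_frame3 H.dW hw0 hw
  have hbw := fr.az h.gN
  let Mem : Module.End F U → Prop := fun D => ∃ Y, h.Rad M w Y ∧ ∀ u, Y (h.tp u b) = h.tp (D u) w
  let Ψ : Module.End F U → Module.End F U → Module.End F U := fun A C => A * C - C * A
  have hiso : ∀ A C, Mem A → Mem C → Ψ A C = 0 := by
    rintro A C ⟨Y, hY, hA⟩ ⟨Z, hZ, hC⟩
    have sA := hY.comp_sym hG hN hw0 hw fr.za hA
    have sC := hZ.comp_sym hG hN hw0 hw fr.za hC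
    have prod : ∀ (Y Z : Module.End F V) (A C : Module.End F U), h.Rad M w Y → h.Rad M w Z →
        (∀ u, Y (h.tp u b) = h.tp (A u) w) → (∀ u, Z (h.tp u b) = h.tp (C u) w) → h.adj C = C →
        Y * Z = h.P w w (-((h.gW b b)⁻¹ • (A * C))) := by
      intro Y Z A C hY hZ hA hC sC
      refine LinearMap.ext fun T => ?_
      rw [Module.End.mul_apply, expand9 H fr (Z T), hZ.hV, hZ.c_apply hG hw hC, sC]
      simp only [map_add, map_neg, map_smul, map_zero, LinearMap.zero_apply, LinearMap.neg_apply, hY.hA, hA,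
        P_apply, LinearMap.add_apply, LinearMap.smul_apply, Module.End.mul_apply]
      module
    have eYZ := prod Y Z A C hY hZ hA hC sC
    have eZY := prod Z Y C A hZ hY hC hA sA
    have := in_comm hY.mem hZ.mem (by rw [eYZ]; exact LinearMap.ext fun T => by simp [P_apply, hY.hV])
      (by rw [eZY]; exact LinearMap.ext fun T => by simp [P_apply, hY.hV])
      (by rw [eYZ, eZY]; exact LinearMap.ext fun T => by simp [P_apply, hZ.hV])
    rw [eYZ, eZY] at this
    have hskew : h.adj (-((h.gW b b)⁻¹ • Ψ A C)) = -(-((h.gW b b)⁻¹ • Ψ A C)) := by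
      simp only [Ψ, adj_neg, adj_smul, adj_sub, adj_mul, sA, sC]
      module
    have h0 := hN w _ hw0 hw hskew (Eq.subst (motive := fun X => In M X) (by
      simp only [Ψ]
      refine LinearMap.ext fun T => ?_
      simp only [P_apply, LinearMap.sub_apply, LinearMap.neg_apply, LinearMap.smul_apply, map_neg, map_smul, map_sub]
      module) this)
    exact (smul_eq_zero.1 (neg_eq_zero.1 h0)).resolve_left (inv_ne_zero fr.aa)
  have hconj : ∀ {z a : U}, h.fU z z = 0 → h.fU z a = 0 → ∀ A, Mem A →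
      Mem (h.shU z a * A * h.shU z (-a)) := by
    rintro z a hz ha A ⟨Y, hY, hA⟩
    obtain ⟨k, hk, ek⟩ := act_sh (h := h.swap) hG.swap hz ha
    have ek' : ∀ u x, k (h.tp u x) = h.tp (h.shU z a u) x := fun u x => ek x u
    have hza : h.fU z (-a) = 0 := by rw [map_neg, ha, neg_zero]
    have e1 : ∀ u, h.shU z a (h.shU z (-a) u) = u := fun u => LinearMap.congr_fun (h.shU_neg hz ha) u
    have es : ∀ u x, k.symm (h.tp u x) = h.tp (h.shU z (-a) u) x := fun u x => by
      rw [LinearEquiv.symm_apply_eq, ek', e1]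
    refine ⟨k.toLinearMap ∘ₗ Y ∘ₗ k.symm.toLinearMap, ⟨hY.mem.conj hk fun T => by simp, fun u => ?_, fun u v hv => ?_,
      fun T => ?_⟩, fun u => ?_⟩
    · simp [es, hY.hA]
    · obtain ⟨p, hp⟩ := hY.hP (h.shU z (-a) u) v hv
      rw [LinearMap.flip_apply] at hp
      simp only [LinearMap.comp_apply, LinearEquiv.coe_coe, es, ← hp, ek']
      exact h.tp_mem_A _ _
    · simp [c_actU hG.le hk ek', hY.hV]
    · simp [es, hA, ek', Module.End.mul_apply]
  obtain ⟨s, hs0, hs1⟩ := H.hex
  have htop : ∀ {z z' a : U}, Frame3 h.fU z z' a → ∀ A C,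
      (∀ t : F, Ψ A (h.shU z (t • a) * C * h.shU z (-(t • a))) = 0) → Ψ A C = 0 →
      Ψ A (h.fU z (C z) • h.rk z z) = 0 := by
    intro z z' a k A C hP h0
    set e : F := 2 * (s * s * (s * s) - s * s) * (h.fU a a / 2 * (h.fU a a / 2)) with he
    have hc : ∀ E : Module.End F U, e • (h.fU z (E z) • h.rk z z) =
        (h.shU z (s • a) * E * h.shU z (-(s • a)) + h.shU z ((-s) • a) * E * h.shU z (-((-s) • a)) - (2 : F) • E) -
        (s * s) • (h.shU z ((1 : F) • a) * E * h.shU z (-((1 : F) • a)) +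
          h.shU z ((-1 : F) • a) * E * h.shU z (-((-1 : F) • a)) - (2 : F) • E) := fun E => LinearMap.ext fun u => by
      simp only [LinearMap.smul_apply, LinearMap.sub_apply, LinearMap.add_apply, Module.End.mul_apply, shU_apply,
        rk_apply, map_smul, map_neg, map_add, map_sub, LinearMap.neg_apply, LinearMap.smul_apply, smul_eq_mul, he]
      match_scalars <;> field_simp <;> ring
    have he0 : e ≠ 0 := by
      rw [he, show s * s * (s * s) - s * s = s * s * (s * s - 1) by ring]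
      exact mul_ne_zero (mul_ne_zero h2 (mul_ne_zero (mul_ne_zero hs0 hs0) (sub_ne_zero.2 hs1)))
        (mul_ne_zero (div_ne_zero k.aa h2) (div_ne_zero k.aa h2))
    refine (smul_eq_zero.1 (show e • Ψ A (h.fU z (C z) • h.rk z z) = 0 from ?_)).resolve_left he0
    have key : e • Ψ A (h.fU z (C z) • h.rk z z) = Ψ A (e • (h.fU z (C z) • h.rk z z)) := by
      simp only [Ψ, mul_smul_comm, smul_mul_assoc]
      module
    rw [key, hc C]
    calc _ = (Ψ A (h.shU z (s • a) * C * h.shU z (-(s • a))) +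
          Ψ A (h.shU z ((-s) • a) * C * h.shU z (-((-s) • a))) -
          (2 : F) • Ψ A C) - (s * s) • (Ψ A (h.shU z ((1 : F) • a) * C * h.shU z (-((1 : F) • a))) +
          Ψ A (h.shU z ((-1 : F) • a) * C * h.shU z (-((-1 : F) • a))) - (2 : F) • Ψ A C) := by
          simp only [Ψ, mul_add, add_mul, mul_sub, sub_mul, mul_smul_comm, smul_mul_assoc]
          module
      _ = 0 := by rw [hP, hP, hP, hP, h0]; simp
  have hflip : ∀ A C, Ψ A C = 0 → Ψ C A = 0 := fun A C e => by
    rw [← neg_eq_zero, ← e]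
    simp only [Ψ]
    module
  have hzero : ∀ A, Mem A → ∀ z, h.fU z z = 0 → h.fU z (A z) = 0 := by
    intro A hm z hz
    by_cases hz0 : z = 0
    · simp [hz0]
    obtain ⟨z', a, k⟩ := h.fN.exists_frame3 H.dU hz0 hz
    have key1 : ∀ C, Mem C → Ψ C (h.fU z (A z) • h.rk z z) = 0 := fun C hC =>
      htop k C A (fun t => hiso _ _ hC (hconj (a := t • a) k.iz (by rw [map_smul, k.za, smul_zero]) A hm))
        (hiso _ _ hC hm)
    set z'' := h.shU z' a z with hz''
    have ez : h.shU z' (-a) z'' = z := by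
      have := LinearMap.congr_fun (h.shU_neg k.iz' (show h.fU z' (-a) = 0 by rw [map_neg, k.z'a, neg_zero])) z
      rwa [neg_neg] at this
    have hm'' := hconj k.iz' k.z'a A hm
    have hiso'' : h.fU z'' z'' = 0 := by
      simp [hz'', shU_apply, k.iz, k.iz', k.za, k.z'a, k.z'z h.fN, k.az h.fN, k.az' h.fN, k.zz']
      field_simp
      ring
    have hzz'' : h.fU z z'' = -(h.fU a a / 2) := by
      simp [hz'', shU_apply, k.iz, k.za, k.zz', k.z'z h.fN, k.az h.fN]
    have hne : h.fU z z'' ≠ 0 := by rw [hzz'']; exact neg_ne_zero.2 (div_ne_zero k.aa h2)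
    have hz''0 : z'' ≠ 0 := fun e => hne (by rw [e, map_zero])
    obtain ⟨z₁, a₁, k₁⟩ := h.fN.exists_frame3 H.dU hz''0 hiso''
    have hν : ∀ E : Module.End F U, h.fU z'' ((h.shU z' a * E * h.shU z' (-a)) z'') = h.fU z (E z) := fun E => by
      rw [Module.End.mul_apply, Module.End.mul_apply, ez, hz'']
      exact act_isom (h := h.swap) (hG.le) (act_sh (h := h.swap) hG.swap k.iz' k.z'a) _ _
    have key2 := htop k₁ (h.fU z (A z) • h.rk z z) _
      (fun t => hflip _ _ (key1 _ (hconj (a := t • a₁) k₁.iz (by rw [map_smul, k₁.za, smul_zero]) _ hm'')))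
      (hflip _ _ (key1 _ hm''))
    rw [hν] at key2
    have e3 := congrArg (fun f => h.fU z'' (f z)) key2
    simp only [Ψ, LinearMap.sub_apply, LinearMap.smul_apply, Module.End.mul_apply, rk_apply,
      map_smul, LinearMap.zero_apply, map_sub, map_zero, smul_eq_mul, k.iz, hiso'', h.f_sym z'' z,
      mul_zero, sub_zero] at e3
    set μ := h.fU z (A z)
    have : μ * μ * (h.fU z z'' * h.fU z z'' * h.fU z z'') = 0 := by linear_combination e3
    exact mul_self_eq_zero.1 ((mul_eq_zero.1 this).resolve_right (mul_ne_zero (mul_ne_zero hne hne) hne))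
  let D : W → Module.End F U := fun v => h.c w' ∘ₗ X ∘ₗ h.tp.flip v
  have hD : ∀ v, h.gW w v = 0 → ∀ u, X (h.tp u v) = h.tp (D v u) w := fun v hwv u => by
    obtain ⟨y, hy⟩ := hX.hP u v (by rw [h.g_sym, hwv])
    simp only [D, LinearMap.comp_apply, LinearMap.flip_apply, ← hy]
    rw [h.c_tp, fr.z'z h.gN, one_smul]
  have hsym : ∀ x y, h.fU (D b x) y = h.fU x (D b y) := fun x y => by
    rw [← h.adj_spec, hX.comp_sym hG hN hw0 hw fr.za (hD b fr.za)]
  obtain ⟨κ, hκ⟩ := sym_scalar (h := h) H.dU.ge (Or.inr H.hex) hsym fun z hz =>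
    hzero _ ⟨X, hX, hD b fr.za⟩ z hz
  set b₀ := (κ / h.gW b b) • b with hb₀
  have hbw₀ : h.gW w b₀ = 0 := by simp [hb₀, fr.za]
  refine ⟨b₀, hbw₀, ?_⟩
  have hnb : h.gW w (-b₀) = 0 := by rw [map_neg, hbw₀, neg_zero]
  set X₂ : Module.End F V := h.sh w (-b₀) 1 + X + h.sh w (-b₀) 1 * X with hX₂def
  have hIn : In M X₂ := (in_sh hG hw hnb).mul hX.mem
  have hzero₂ : ∀ u v, h.gW v w = 0 → X₂ (h.tp u v) = 0 := fun u v hv => by
    have hwv : h.gW w v = 0 := by rw [h.g_sym, hv]
    rw [fr.decomp h.gN H.dW v, hwv, zero_smul, add_zero]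
    simp only [hX₂def, map_add, map_smul, LinearMap.add_apply, Module.End.mul_apply, hD b fr.za u,
      hX.hA, hκ, sh_one_tp, LinearMap.smul_apply, Module.End.one_apply]
    simp [hb₀, hw, fr.za, hbw, div_mul_cancel₀ _ fr.aa]
  have hV : ∀ T, h.c w (X₂ T) = 0 := fun T => by
    simp [hX₂def, sh_apply, hX.hV, hw, hbw₀]
  have hin : ∀ T, X₂ T ∈ h.A w := fun T => h.mem_A_of_perp hw0 fun u v hv => by
    have := hIn.polar_eq hG.le (h.tp u v) T
    rwa [hzero₂ u v hv, polar_zero_left, polar_zero_left, zero_add, add_zero] at this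
  let G : Module.End F U := h.c w' ∘ₗ X₂ ∘ₗ h.tp.flip w'
  have hG₁ : X₂ = h.P w w G := LinearMap.ext fun T => by
    have e1 : X₂ (T - h.tp (h.c w T) w') = 0 := h.map_eq_zero_of_tp X₂ hw0 hzero₂ (by
      rw [map_sub, h.c_tp, fr.zz', one_smul, sub_self])
    rw [map_sub, sub_eq_zero] at e1
    obtain ⟨y, hy⟩ := hin T
    have e2 : G (h.c w T) = h.c w' (X₂ T) := by rw [e1]; rfl
    rw [P_apply, e2, ← hy, LinearMap.flip_apply, h.c_tp, fr.z'z h.gN, one_smul]
  have hadj : h.adj G = -G := h.adj_eq fun u x => by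
    have := hIn.polar_eq hG.le (h.tp u w') (h.tp x w')
    rw [hG₁, P_apply, P_apply, h.c_tp, h.c_tp, fr.zz', one_smul, one_smul, h.pol, h.pol, h.pol, hw, fr.zz',
      fr.z'z h.gN, mul_zero, mul_one, mul_one, add_zero] at this
    rw [LinearMap.neg_apply, map_neg, LinearMap.neg_apply]
    linear_combination -this
  rw [hN w G hw0 hw hadj (hG₁ ▸ hIn), show h.P w w 0 = 0 from LinearMap.ext fun T => by simp [P_apply],
    hX₂def] at hG₁
  refine LinearMap.ext fun T => ?_
  have e := LinearMap.congr_fun hG₁ T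
  simp only [LinearMap.add_apply, Module.End.mul_apply, LinearMap.zero_apply] at e
  have e' := congrArg (fun S => S + h.sh w b₀ 1 S) e
  simp only [map_add, map_zero, add_zero] at e'
  have hcancel : ∀ S, h.sh w b₀ 1 S + h.sh w (-b₀) 1 S + h.sh w b₀ 1 (h.sh w (-b₀) 1 S) = 0 := fun S => by
    have := LinearMap.congr_fun (h.sh_add hw hbw₀ hnb 1) S
    rw [add_neg_cancel, sh_zero] at this
    simpa [Module.End.mul_apply] using this
  linear_combination (norm := abel) e' - hcancel T - hcancel (X T)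

end TData

end CfsgLib.TensorOO
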